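import Mathlib
import Groth.Agent.CoeffField.Smooth
import Groth.Agent.RegLoc6.GeomRed
import Groth.Agent.GeomField.Algebra

/-!
Formally smooth field extensions are exactly the geometrically reduced ones.
-/

open MvPolynomial TensorProduct KaehlerDifferential

namespace Groth.Agent.EGA41Lib.FieldFS

universe u v w

/-- Formal smoothness of a field extension is tested on finitely generated subextensions. -/
theorem formallySmooth_of_forall_essFiniteType (k : Type u) [Field k] (L : Type v)
    [Field L] [Algebra k L]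
    (hfs : ∀ F : IntermediateField k L, Algebra.EssFiniteType k F → Algebra.FormallySmooth k F) :
    Algebra.FormallySmooth k L := by
  refine ⟨inferInstance, ?_⟩
  letI algL : Algebra (MvPolynomial L k) L := (aeval (id : L → L)).toRingHom.toAlgebra
  haveI : IsScalarTower k (MvPolynomial L k) L :=
    .of_algebraMap_eq' (aeval (id : L → L)).comp_algebraMap.symm
  have hsurj : Function.Surjective (algebraMap (MvPolynomial L k) L) := fun x => ⟨X x, aeval_X _ x⟩
  rw [← Algebra.FormallySmooth.kerCotangentToTensor_injective_iff (P := MvPolynomial L k) hsurj,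
    injective_iff_map_eq_zero]
  intro z hz
  obtain ⟨⟨f, hf⟩, rfl⟩ := Ideal.toCotangent_surjective _ z
  rw [Ideal.toCotangent_eq_zero]
  have hz' : (1 : L) ⊗ₜ[MvPolynomial L k] D k (MvPolynomial L k) f = 0 := hz
  have hder : ∀ x : L, aeval (id : L → L) (pderiv x f) = 0 := by
    intro x
    have := DFunLike.congr_fun (congrArg ((mvPolynomialBasis k L).baseChange L).repr hz') x
    simp [Algebra.smul_def] at this
    exact this
  obtain ⟨s, g, rfl⟩ := exists_finset_rename f
  let F : IntermediateField k L := IntermediateField.adjoin k (s : Set L)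
  haveI : Algebra.EssFiniteType k F :=
    IntermediateField.essFiniteType_iff.2 (IntermediateField.fg_adjoin_finset s)
  let ι : {x // x ∈ s} → F := fun x => ⟨x, IntermediateField.subset_adjoin k _ x.2⟩
  let g' : MvPolynomial F k := rename ι g
  have hinj : Function.Injective (fun y : F => (y : L)) := Subtype.val_injective
  have hren : rename (fun y : F => (y : L)) g' = rename (Subtype.val : {x // x ∈ s} → L) g := by
    rw [rename_rename]; rfl
  show rename (Subtype.val : {x // x ∈ s} → L) g ∈ RingHom.ker (algebraMap (MvPolynomial L k) L) ^ 2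
  clear hz hz'
  rw [← hren] at hder hf ⊢
  have hcomp : ∀ p : MvPolynomial F k,
      aeval (id : L → L) (rename (fun y : F => (y : L)) p) = ((aeval (id : F → F) p : F) : L) := by
    intro p
    rw [aeval_rename]
    exact (comp_aeval_apply (id : F → F) F.val p).symm
  letI algF : Algebra (MvPolynomial F k) F := (aeval (id : F → F)).toRingHom.toAlgebra
  haveI : IsScalarTower k (MvPolynomial F k) F :=
    .of_algebraMap_eq' (aeval (id : F → F)).comp_algebraMap.symm
  have hsurjF : Function.Surjective (algebraMap (MvPolynomial F k) F) := fun x => ⟨X x, aeval_X _ x⟩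
  have hg : g' ∈ RingHom.ker (algebraMap (MvPolynomial F k) F) :=
    hinj ((hcomp g').symm.trans hf)
  haveI : Algebra.FormallySmooth k F := hfs F inferInstance
  have hFinj := (Algebra.FormallySmooth.kerCotangentToTensor_injective_iff
    (R := k) (A := F) (P := MvPolynomial F k) hsurjF).2 inferInstance
  have hzero : kerCotangentToTensor k (MvPolynomial F k) F (Ideal.toCotangent _ ⟨g', hg⟩) = 0 := by
    show (1 : F) ⊗ₜ[MvPolynomial F k] D k (MvPolynomial F k) g' = 0
    apply ((mvPolynomialBasis k F).baseChange F).repr.injective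
    refine Finsupp.ext fun y => ?_
    have h1 := hder (y : L)
    rw [pderiv_rename hinj, hcomp] at h1
    simp [Algebra.smul_def]
    exact hinj h1
  have h2 := hFinj (hzero.trans (map_zero _).symm)
  rw [Ideal.toCotangent_eq_zero] at h2
  have h3 := Ideal.mem_map_of_mem (rename (fun y : F => (y : L))).toRingHom h2
  rw [Ideal.map_pow] at h3
  refine Ideal.pow_right_mono ?_ 2 h3
  rw [Ideal.map_le_iff_le_comap]
  intro p hp
  show aeval (id : L → L) (rename (fun y : F => (y : L)) p) = 0
  rw [hcomp, show aeval (id : F → F) p = 0 from hp]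
  rfl

theorem formallySmooth_of_separating {k F : Type u} [Field k] [Field F] [Algebra k F] [Algebra.EssFiniteType k F]
    (s : Finset F) (hs : AlgebraicIndependent k ((↑) : s → F))
    [Algebra.IsSeparable (IntermediateField.adjoin k (s : Set F)) F] : Algebra.FormallySmooth k F := by
  let K0 := IntermediateField.adjoin k (s : Set F)
  haveI h0 : Algebra.FormallySmooth k (FractionRing (MvPolynomial s k)) := inferInstance
  have hr : IntermediateField.adjoin k (Set.range ((↑) : s → F)) = K0 := by
    simp only [K0]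
    congr 1
    exact Subtype.range_coe
  haveI : Algebra.FormallySmooth k K0 :=
    Algebra.FormallySmooth.of_equiv ((hs.aevalEquivField).trans (IntermediateField.equivOfEq hr))
  haveI : Algebra.EssFiniteType K0 F := Algebra.EssFiniteType.of_comp k K0 F
  haveI : Algebra.FormallyEtale K0 F := Algebra.FormallyEtale.of_isSeparable K0 F
  exact Algebra.FormallySmooth.comp k K0 F

theorem formallySmooth_of_isGeometricallyReduced (k L : Type u) [Field k] [Field L] [Algebra k L]
    [Algebra.IsGeometricallyReduced k L] : Algebra.FormallySmooth k L := by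
  refine formallySmooth_of_forall_essFiniteType k L fun F hF => ?_
  haveI : Algebra.IsGeometricallyReduced k F := Algebra.IsGeometricallyReduced.of_injective F.val Subtype.val_injective
  obtain ⟨s, hs, hsep⟩ := RegLoc6.exists_separating_transcendence k F
  exact formallySmooth_of_separating s hs.1

open IsLocalRing Polynomial in
/-- A local algebra with nilpotent maximal ideal, formally smooth over a perfect field, is a field. -/
theorem maximalIdeal_eq_bot (F : Type w) {R : Type u} [Field F] [PerfectField F] [CommRing R] [IsLocalRing R]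
    [Algebra F R] [Algebra.FormallySmooth F R] (hnil : IsNilpotent (maximalIdeal R)) : maximalIdeal R = ⊥ := by
  let L := ResidueField R
  obtain ⟨N, hN⟩ := hnil
  obtain ⟨σ, hσ⟩ : ∃ σ : ResidueField R →ₐ[F] R, ∀ c : ResidueField R, residue R (σ c) = c := by
    haveI : Algebra.FormallySmooth F (R ⧸ maximalIdeal R) := CoeffField.formallySmooth_of_perfectField F L
    obtain ⟨σ₀, hσ'⟩ := Algebra.FormallySmooth.exists_lift (maximalIdeal R) ⟨N, hN⟩ (AlgHom.id F (R ⧸ maximalIdeal R))
    exact ⟨σ₀, fun c => AlgHom.congr_fun hσ' c⟩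
  by_contra hne
  obtain ⟨x₀, hx₀, hx₀'⟩ : ∃ x, x ∈ maximalIdeal R ∧ x ∉ maximalIdeal R ^ 2 := by
    by_contra hcon
    push Not at hcon
    refine hne (le_bot_iff.mp ?_)
    have h1 : ∀ j, maximalIdeal R ≤ maximalIdeal R ^ (j + 1) := by
      intro j
      induction j with
      | zero => simp
      | succ j ih =>
        calc maximalIdeal R ≤ maximalIdeal R ^ 2 := hcon
          _ ≤ maximalIdeal R * maximalIdeal R ^ (j + 1) := by rw [pow_two]; exact Ideal.mul_mono le_rfl ih
          _ = maximalIdeal R ^ (j + 1 + 1) := by rw [pow_succ' _ (j + 1)]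
    refine (h1 N).trans ?_
    rw [pow_succ, hN, zero_mul]
    exact le_rfl
  have hx₀0 : (maximalIdeal R).toCotangent ⟨x₀, hx₀⟩ ≠ 0 := fun h =>
    hx₀' ((Ideal.toCotangent_eq_zero _ ⟨x₀, hx₀⟩).mp h)
  obtain ⟨ℓ, hℓ⟩ : ∃ ℓ : Module.Dual L (CotangentSpace R), ℓ ((maximalIdeal R).toCotangent ⟨x₀, hx₀⟩) = 1 := by
    obtain ⟨ℓ, hℓ⟩ := not_forall.mp (mt (Module.forall_dual_apply_eq_zero_iff L _).mp hx₀0)
    exact ⟨(ℓ ((maximalIdeal R).toCotangent ⟨x₀, hx₀⟩))⁻¹ • ℓ, inv_mul_cancel₀ hℓ⟩
  have hmem : ∀ r : R, r - σ (residue R r) ∈ maximalIdeal R := fun r => by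
    rw [← residue_eq_zero_iff, map_sub, hσ, sub_self]
  let d : R → L := fun r => ℓ ((maximalIdeal R).toCotangent ⟨_, hmem r⟩)
  have hd_eq : ∀ (r : R) (a : R) (ha : a ∈ maximalIdeal R), r - σ (residue R r) = a →
      d r = ℓ ((maximalIdeal R).toCotangent ⟨a, ha⟩) := by
    intro r a ha h
    subst h
    rfl
  have hd_add : ∀ r s, d (r + s) = d r + d s := fun r s => by
    rw [hd_eq (r + s) _ (add_mem (hmem r) (hmem s)) (by rw [map_add, map_add]; ring)]
    rw [show (⟨_, add_mem (hmem r) (hmem s)⟩ : maximalIdeal R) = ⟨_, hmem r⟩ + ⟨_, hmem s⟩ from rfl, map_add, map_add]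
  have hd_mul : ∀ r s, d (r * s) = residue R r * d s + residue R s * d r := fun r s => by
    let a : maximalIdeal R := ⟨_, hmem r⟩
    let b : maximalIdeal R := ⟨_, hmem s⟩
    have hm : (a : R) * (b : R) ∈ maximalIdeal R ^ 2 := by rw [pow_two]; exact Ideal.mul_mem_mul a.2 b.2
    let c : maximalIdeal R := σ (residue R r) • b + σ (residue R s) • a + ⟨(a : R) * b, Ideal.mul_mem_right _ _ a.2⟩
    rw [hd_eq (r * s) (c : R) c.2 (by
      show r * s - σ (residue R (r * s)) = σ (residue R r) * (s - σ (residue R s)) +
        σ (residue R s) * (r - σ (residue R r)) + (r - σ (residue R r)) * (s - σ (residue R s))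
      rw [map_mul, map_mul]; ring)]
    show ℓ ((maximalIdeal R).toCotangent c) = _
    have hsm : ∀ (t : L) (y : CotangentSpace R), ℓ (σ t • y) = t * ℓ y := fun t y => by
      rw [← algebraMap_smul L (σ t), map_smul, smul_eq_mul]
      congr 1
      exact hσ t
    simp only [c, map_add, map_smul]
    have hc : (maximalIdeal R).toCotangent ⟨(a : R) * b, Ideal.mul_mem_right _ _ a.2⟩ = 0 :=
      (Ideal.toCotangent_eq_zero _ _).mpr hm
    rw [hc, map_zero, add_zero, hsm, hsm]
  have hd_alg : ∀ a : F, d (algebraMap F R a) = 0 := fun a => by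
    have : residue R (algebraMap F R a) = algebraMap F (ResidueField R) a := rfl
    rw [hd_eq (algebraMap F R a) 0 (zero_mem _) (by rw [this, σ.commutes, sub_self])]
    rw [show (⟨0, zero_mem _⟩ : maximalIdeal R) = 0 from rfl, map_zero, map_zero]
  have hd_one : d 1 = 0 := by simpa using hd_alg 1
  let g : R →ₐ[F] DualNumber L :=
    { toFun := fun r => TrivSqZeroExt.inl (residue R r) + TrivSqZeroExt.inr (d r)
      map_one' := by rw [map_one, hd_one, TrivSqZeroExt.inl_one, TrivSqZeroExt.inr_zero, add_zero]
      map_mul' := fun r s => by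
        refine TrivSqZeroExt.ext ?_ ?_
        · simp
        · simp [hd_mul, mul_comm]
      map_zero' := by
        have : d 0 = 0 := by simpa using hd_alg 0
        rw [map_zero, this, TrivSqZeroExt.inl_zero, TrivSqZeroExt.inr_zero, add_zero]
      map_add' := fun r s => by
        rw [map_add, hd_add, TrivSqZeroExt.inl_add, TrivSqZeroExt.inr_add]; abel
      commutes' := fun a => by
        rw [hd_alg, TrivSqZeroExt.inr_zero, add_zero]; rfl }
  let I : Ideal L[X] := Ideal.span {Polynomial.X ^ (N + 2)}
  let q : L[X] →ₐ[L] DualNumber L := Polynomial.aeval DualNumber.eps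
  have hq0 : ∀ f : L[X], (q f).fst = f.coeff 0 := fun f => by
    induction f using Polynomial.induction_on' with
    | add f g hf hg => simp [hf, hg]
    | monomial n a =>
      cases n with
      | zero => simp [q, TrivSqZeroExt.algebraMap_eq_inl]
      | succ n => simp [q, Polynomial.aeval_monomial, Polynomial.coeff_monomial, pow_succ]
  have hq1 : ∀ f : L[X], (q f).snd = f.coeff 1 := fun f => by
    induction f using Polynomial.induction_on' with
    | add f g hf hg => simp [hf, hg]
    | monomial n a =>
      rcases n with _ | _ | n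
      · simp [q, TrivSqZeroExt.algebraMap_eq_inl, Polynomial.coeff_monomial]
      · simp [q, Polynomial.aeval_monomial, TrivSqZeroExt.algebraMap_eq_inl, Polynomial.coeff_monomial]
      · simp [q, Polynomial.aeval_monomial, Polynomial.coeff_monomial, pow_succ, mul_assoc]
  have hIq : ∀ f ∈ I, q f = 0 := fun f hf => by
    obtain ⟨h, rfl⟩ := Ideal.mem_span_singleton.mp hf
    simp [q, pow_succ, mul_assoc]
    rw [← mul_assoc DualNumber.eps DualNumber.eps, DualNumber.eps_mul_eps, zero_mul, mul_zero]
  let π : (L[X] ⧸ I) →ₐ[F] DualNumber L := Ideal.Quotient.liftₐ I (q.restrictScalars F) hIq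
  have hπ : Function.Surjective π := fun z =>
    ⟨Ideal.Quotient.mk I (Polynomial.C z.fst + Polynomial.C z.snd * Polynomial.X), by
      show q _ = z
      refine TrivSqZeroExt.ext ?_ ?_
      · rw [hq0]; simp
      · rw [hq1]; simp⟩
  have hπnil : IsNilpotent (RingHom.ker (π : (L[X] ⧸ I) →+* DualNumber L)) := by
    refine ⟨N + 2, le_bot_iff.mp ?_⟩
    refine (Ideal.pow_right_mono (show RingHom.ker (π : (L[X] ⧸ I) →+* DualNumber L) ≤
      (Ideal.span {Polynomial.X}).map (Ideal.Quotient.mk I) from fun z hz => ?_) _).trans ?_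
    · obtain ⟨f, rfl⟩ := Ideal.Quotient.mk_surjective z
      refine Ideal.mem_map_of_mem _ (Ideal.mem_span_singleton.mpr (Polynomial.X_dvd_iff.mpr ?_))
      rw [← hq0]
      exact congrArg TrivSqZeroExt.fst (show q f = 0 from hz)
    · rw [← Ideal.map_pow, Ideal.span_singleton_pow, Ideal.map_quotient_self]
  let ψ : R →ₐ[F] (L[X] ⧸ I) := Algebra.FormallySmooth.liftOfSurjective g π hπ hπnil
  obtain ⟨f, hf⟩ := Ideal.Quotient.mk_surjective (ψ x₀)
  have hfq : q f = g x₀ := by
    rw [← Algebra.FormallySmooth.liftOfSurjective_apply g π hπ hπnil x₀]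
    show q f = π (ψ x₀)
    rw [← hf]
    rfl
  have hg0 : residue R x₀ = 0 := (residue_eq_zero_iff _).mpr hx₀
  have hgd : d x₀ = 1 := by
    rw [hd_eq x₀ x₀ hx₀ (by rw [hg0, map_zero, sub_zero])]
    exact hℓ
  have hf0 : f.coeff 0 = 0 := by
    rw [← hq0, hfq]
    show (TrivSqZeroExt.inl (residue R x₀) + TrivSqZeroExt.inr (d x₀) : DualNumber L).fst = 0
    simp [hg0]
  have hf1 : f.coeff 1 = 1 := by
    rw [← hq1, hfq]
    show (TrivSqZeroExt.inl (residue R x₀) + TrivSqZeroExt.inr (d x₀) : DualNumber L).snd = 1
    simp [hgd]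
  obtain ⟨h, rfl⟩ := Polynomial.X_dvd_iff.mpr hf0
  rw [Polynomial.coeff_X_mul] at hf1
  have hxN : x₀ ^ N = 0 := by
    have := Ideal.pow_mem_pow hx₀ N
    rwa [hN] at this
  have hzero : (Polynomial.X * h) ^ N ∈ I := by
    rw [← Ideal.Quotient.eq_zero_iff_mem, map_pow, hf, ← map_pow, hxN, map_zero]
  rw [Ideal.mem_span_singleton, mul_pow, pow_add, mul_dvd_mul_iff_left (pow_ne_zero _ Polynomial.X_ne_zero)] at hzero
  have h2 : Polynomial.X ∣ h ^ N := (dvd_pow_self Polynomial.X (by omega : 2 ≠ 0)).trans hzero
  rw [Polynomial.X_dvd_iff, Polynomial.coeff_zero_eq_eval_zero, Polynomial.eval_pow,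
    ← Polynomial.coeff_zero_eq_eval_zero, hf1, one_pow] at h2
  exact one_ne_zero h2

/-- An artinian ring formally smooth over a perfect field is reduced. -/
theorem isReduced_of_formallySmooth (F : Type w) {R : Type u} [Field F] [PerfectField F] [CommRing R]
    [IsArtinianRing R] [Algebra F R] [Algebra.FormallySmooth F R] : IsReduced R := by
  refine isReduced_ofLocalizationMaximal R fun m _ => ?_
  haveI : Algebra.FormallySmooth R (Localization.AtPrime m) := Algebra.FormallySmooth.of_isLocalization m.primeCompl
  haveI : Algebra.FormallySmooth F (Localization.AtPrime m) := Algebra.FormallySmooth.comp F R (Localization.AtPrime m)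
  have hnil : IsNilpotent (IsLocalRing.maximalIdeal (Localization.AtPrime m)) := by
    rw [← IsLocalRing.jacobson_eq_maximalIdeal ⊥ bot_ne_top]
    exact IsArtinianRing.isNilpotent_jacobson_bot
  have hf : IsField (Localization.AtPrime m) := IsLocalRing.isField_iff_maximalIdeal_eq.mpr (maximalIdeal_eq_bot F hnil)
  letI := hf.toField
  infer_instance

theorem isGeometricallyReduced_of_formallySmooth (k K : Type u) [Field k] [Field K] [Algebra k K]
    [Algebra.FormallySmooth k K] : Algebra.IsGeometricallyReduced k K := by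
  refine GeomField.gr_of_purelyInseparable K fun k' _ _ _ _ => ?_
  haveI : IsArtinianRing (K ⊗[k] k') := isArtinian_of_tower K inferInstance
  haveI : IsArtinianRing (k' ⊗[k] K) :=
    (Algebra.TensorProduct.comm k k' K).symm.toRingEquiv.isArtinianRing
  obtain ⟨p, hp⟩ := CharP.exists k'
  haveI : IsReduced (k' ⊗[k] K) := by
    rcases CharP.char_is_prime_or_zero k' p with hpp | hp0
    · haveI := Fact.mk hpp
      letI : Algebra (ZMod p) k' := ZMod.algebra k' p
      haveI : Algebra.FormallySmooth (ZMod p) k' := CoeffField.formallySmooth_of_perfectField (ZMod p) k'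
      haveI : Algebra.FormallySmooth (ZMod p) (k' ⊗[k] K) :=
        Algebra.FormallySmooth.comp (ZMod p) k' (k' ⊗[k] K)
      exact isReduced_of_formallySmooth (ZMod p)
    · subst hp0
      haveI := CharP.charP_to_charZero k'
      haveI : PerfectField k' := inferInstance
      exact isReduced_of_formallySmooth k'
  exact isReduced_of_injective (Algebra.TensorProduct.comm k K k') (Algebra.TensorProduct.comm k K k').injective

end Groth.Agent.EGA41Lib.FieldFS
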