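import Mathlib.RingTheory.Ideal.HasGoingUp
import Mathlib.RingTheory.Ideal.GoingUp
import Mathlib.RingTheory.KrullDimension.Basic
import Mathlib.RingTheory.KrullDimension.Module

/-!
Krull dimension and integral extensions.
-/

set_option autoImplicit false

universe u v

namespace Groth.Agent.EGA41Lib

variable {A : Type u} {B : Type v} [CommRing A] [CommRing B] [Algebra A B] [Algebra.IsIntegral A B]

theorem strictMono_comap_of_integral : StrictMono (PrimeSpectrum.comap (algebraMap A B)) :=
  fun I _ h => Ideal.IsIntegral.comap_lt_comap (I := I.asIdeal) h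

theorem ringKrullDim_le_of_integral : ringKrullDim B ≤ ringKrullDim A :=
  Order.krullDim_le_of_strictMono _ strictMono_comap_of_integral

theorem ringKrullDim_eq_of_integral (h : Function.Injective (algebraMap A B)) :
    ringKrullDim B = ringKrullDim A := by
  refine le_antisymm ringKrullDim_le_of_integral (iSup_le fun l => ?_)
  have := Algebra.HasGoingUp.of_isIntegral (R := A) (S := B)
  obtain ⟨Q, -, hQ, hQl⟩ := Ideal.exists_ideal_over_prime_of_isIntegral (S := B) l.head.asIdeal ⊥
    (by rw [← RingHom.ker_eq_comap_bot, (RingHom.injective_iff_ker_eq_bot _).mp h]; exact bot_le)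
  haveI : Q.LiesOver l.head.asIdeal := ⟨hQl.symm⟩
  obtain ⟨L, hL, -, -⟩ := Ideal.exists_ltSeries_of_hasGoingUp l Q
  rw [← hL]
  exact le_iSup (fun l : LTSeries (PrimeSpectrum B) => (l.length : WithBot ℕ∞)) L

theorem supportDim_eq_of_finite (M : Type u) [AddCommGroup M] {B : Type u} [CommRing B] [Algebra A B]
    [Module B M] [Module A M] [IsScalarTower A B M] [Module.Finite A M] :
    Module.supportDim A M = Module.supportDim B M := by
  haveI : Module.Finite B M := Module.Finite.of_restrictScalars_finite A B M
  rw [Module.supportDim_eq_ringKrullDim_quotient_annihilator,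
    Module.supportDim_eq_ringKrullDim_quotient_annihilator]
  set I := Module.annihilator A M
  set J := Module.annihilator B M
  have hIJ : I = J.comap (algebraMap A B) := by
    ext a
    simp only [I, J, Ideal.mem_comap, Module.mem_annihilator, algebraMap_smul]
  haveI : Algebra.IsIntegral A (B ⧸ J) := by
    let φ : (B ⧸ J) →ₐ[A] Module.End A M :=
      Ideal.Quotient.liftₐ J (Algebra.lsmul A A M) (fun b hb => LinearMap.ext fun m =>
        Module.mem_annihilator.mp hb m)
    have hφ : Function.Injective φ := by
      rw [injective_iff_map_eq_zero]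
      intro z hz
      obtain ⟨b, rfl⟩ := Ideal.Quotient.mk_surjective z
      exact Ideal.Quotient.eq_zero_iff_mem.mpr (Module.mem_annihilator.mpr fun m => LinearMap.congr_fun hz m)
    exact ⟨fun z => (isIntegral_algHom_iff φ hφ).mp (Algebra.IsIntegral.isIntegral _)⟩
  letI : Algebra (A ⧸ I) (B ⧸ J) := (Ideal.quotientMap J (algebraMap A B) hIJ.le).toAlgebra
  haveI : IsScalarTower A (A ⧸ I) (B ⧸ J) := IsScalarTower.of_algebraMap_eq fun a => rfl
  haveI : Algebra.IsIntegral (A ⧸ I) (B ⧸ J) := Algebra.IsIntegral.tower_top A
  exact (ringKrullDim_eq_of_integral (Ideal.quotientMap_injective' (H := hIJ.le) hIJ.ge)).symm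

end Groth.Agent.EGA41Lib
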