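import Groth.Prelude.Def_EGA41
import Groth.Prelude.Def_CAlgX
import Mathlib.RingTheory.AdicCompletion.RingHom

/-!
Basic lemmas on formal smoothness for adic topologies (discrete targets).
-/

universe u

namespace Groth.Agent.EGA41Lib

variable {A B C D : Type u} [CommRing A] [CommRing B] [CommRing C] [CommRing D]

/-- A ring map sends powers into powers. -/
theorem mem_pow_of_forall_mem {S : Type*} [FunLike S B C] [RingHomClass S B C] (f : S)
    {I : Ideal B} {J : Ideal C} (h : ∀ x ∈ I, f x ∈ J) (t : ℕ) :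
    ∀ x ∈ I ^ t, f x ∈ J ^ t := by
  intro x hx
  have h1 : I.map f ≤ J := Ideal.map_le_iff_le_comap.mpr h
  exact (Ideal.map_pow f I t).trans_le (Ideal.pow_right_mono h1 t) (Ideal.mem_map_of_mem f hx)

variable [Algebra A B] [Algebra A C]

/-- If the composite with `C → C ⧸ J` kills a power of `I` and `J` is nilpotent, so does the map. -/
theorem kills_power_of_nilpotent (v : B →ₐ[A] C) {I : Ideal B} {J : Ideal C} (hJ : IsNilpotent J)
    (h : ∃ k : ℕ, ∀ x ∈ I ^ k, Ideal.Quotient.mk J (v x) = 0) :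
    ∃ k : ℕ, ∀ x ∈ I ^ k, v x = 0 := by
  obtain ⟨k, hk⟩ := h
  obtain ⟨t, ht⟩ := hJ
  refine ⟨k * t, fun x hx => ?_⟩
  rw [pow_mul] at hx
  have := mem_pow_of_forall_mem v (fun y hy => Ideal.Quotient.eq_zero_iff_mem.mp (hk y hy)) t x hx
  rw [ht] at this
  simpa using this

/-- Lifting along a nilpotent surjection from lifting along square-zero ones, discrete base. -/
theorem lift_of_isAdicFormallySmooth {I : Ideal B} (h : CAlgX.IsAdicFormallySmooth A B I)
    (J : Ideal C) (hJ : IsNilpotent J) (u : B →ₐ[A] C ⧸ J)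
    (hu : ∃ k : ℕ, ∀ x ∈ I ^ k, u x = 0) :
    ∃ v : B →ₐ[A] C, (Ideal.Quotient.mkₐ A J).comp v = u := by
  obtain ⟨t, ht⟩ := hJ
  induction t generalizing C with
  | zero =>
    have : (1 : C) = 0 := by
      rw [← Ideal.mem_bot, ← Ideal.zero_eq_bot, ← ht, pow_zero, Ideal.one_eq_top]
      trivial
    haveI : Subsingleton C := subsingleton_of_zero_eq_one this.symm
    have hJ2 : J ^ 2 = ⊥ := Subsingleton.elim _ _
    exact h C J hJ2 u hu
  | succ t ih =>
    rcases Nat.eq_zero_or_pos t with rfl | htpos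
    · refine h C J ?_ u hu
      rw [pow_one] at ht
      rw [ht, ← Ideal.zero_eq_bot, zero_pow two_ne_zero]
    · set K := J ^ t with hK
      have hKJ : K ≤ J := Ideal.pow_le_self (by omega)
      let e := DoubleQuot.quotQuotEquivQuotOfLEₐ A hKJ
      have ht' : (J.map (Ideal.Quotient.mkₐ A K)) ^ t = 0 := by
        rw [← Ideal.map_pow, ← hK, Ideal.zero_eq_bot, Ideal.map_eq_bot_iff_le_ker]
        intro x hx
        exact Ideal.Quotient.eq_zero_iff_mem.mpr hx
      obtain ⟨v', hv'⟩ := ih (J.map (Ideal.Quotient.mkₐ A K)) (e.symm.toAlgHom.comp u)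
        (hu.imp fun k hk x hx => by simp [hk x hx]) ht'
      have hc : ∀ b, e (Ideal.Quotient.mk _ (v' b)) = u b := by
        intro b
        have := AlgHom.congr_fun hv' b
        simp only [AlgHom.comp_apply, Ideal.Quotient.mkₐ_eq_mk] at this
        rw [this]
        exact e.apply_symm_apply _
      have hK2 : K ^ 2 = ⊥ := by
        rw [hK, ← pow_mul, ← Ideal.zero_eq_bot]
        exact pow_eq_zero_of_le (by omega) ht
      obtain ⟨v, hv⟩ := h C K hK2 v' (kills_power_of_nilpotent v' ⟨t, ht'⟩ (hu.imp fun k hk x hx => by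
        apply e.injective
        rw [map_zero, hc, hk x hx]))
      refine ⟨v, AlgHom.ext fun b => ?_⟩
      rw [← hc, ← hv]
      obtain ⟨c, hc'⟩ : ∃ c, v b = c := ⟨_, rfl⟩
      simp only [AlgHom.comp_apply, Ideal.Quotient.mkₐ_eq_mk]
      rfl

/-- A map into the quotient by an intersection of two ideals from two compatible maps. -/
theorem exists_lift_inf (I₁ I₂ : Ideal C) (v₁ : B →ₐ[A] C ⧸ I₁) (v₂ : B →ₐ[A] C ⧸ I₂)
    (h : (Ideal.Quotient.factorₐ A (le_sup_left : I₁ ≤ I₁ ⊔ I₂)).comp v₁ =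
      (Ideal.Quotient.factorₐ A (le_sup_right : I₂ ≤ I₁ ⊔ I₂)).comp v₂) :
    ∃ w : B →ₐ[A] C ⧸ (I₁ ⊓ I₂),
      (Ideal.Quotient.factorₐ A inf_le_left).comp w = v₁ ∧
      (Ideal.Quotient.factorₐ A inf_le_right).comp w = v₂ := by
  let p : (C ⧸ (I₁ ⊓ I₂)) →ₐ[A] (C ⧸ I₁) × (C ⧸ I₂) :=
    (Ideal.Quotient.factorₐ A inf_le_left).prod (Ideal.Quotient.factorₐ A inf_le_right)
  have hp : Function.Injective p := by
    rw [injective_iff_map_eq_zero]
    intro z hz
    obtain ⟨c, rfl⟩ := Ideal.Quotient.mk_surjective z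
    rw [Prod.ext_iff] at hz
    exact Ideal.Quotient.eq_zero_iff_mem.mpr ⟨Ideal.Quotient.eq_zero_iff_mem.mp hz.1,
      Ideal.Quotient.eq_zero_iff_mem.mp hz.2⟩
  have hr : ∀ b, (v₁.prod v₂) b ∈ p.range := by
    intro b
    obtain ⟨c₁, h₁⟩ := Ideal.Quotient.mk_surjective (v₁ b)
    obtain ⟨c₂, h₂⟩ := Ideal.Quotient.mk_surjective (v₂ b)
    have hb := AlgHom.congr_fun h b
    rw [AlgHom.comp_apply, AlgHom.comp_apply, ← h₁, ← h₂] at hb
    have hb' : c₁ - c₂ ∈ I₁ ⊔ I₂ := Ideal.Quotient.eq.mp hb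
    obtain ⟨a₁, ha₁, a₂, ha₂, ha⟩ := Submodule.mem_sup.mp hb'
    refine ⟨Ideal.Quotient.mk _ (c₁ - a₁), Prod.ext ?_ ?_⟩
    · show Ideal.Quotient.mk I₁ (c₁ - a₁) = v₁ b
      rw [← h₁, Ideal.Quotient.eq]
      simpa using I₁.neg_mem ha₁
    · show Ideal.Quotient.mk I₂ (c₁ - a₁) = v₂ b
      rw [← h₂, Ideal.Quotient.eq]
      have : c₁ - a₁ - c₂ = a₂ := by linear_combination -ha
      rwa [this]
  let e := AlgEquiv.ofInjective p hp
  let w : B →ₐ[A] C ⧸ (I₁ ⊓ I₂) := e.symm.toAlgHom.comp ((v₁.prod v₂).codRestrict _ hr)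
  have hw : ∀ b, p (w b) = (v₁ b, v₂ b) := fun b =>
    congrArg Subtype.val (e.apply_symm_apply ((v₁.prod v₂).codRestrict _ hr b))
  exact ⟨w, AlgHom.ext fun b => (Prod.ext_iff.mp (hw b)).1,
    AlgHom.ext fun b => (Prod.ext_iff.mp (hw b)).2⟩

end Groth.Agent.EGA41Lib
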