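import Groth.Agent.ProConsLib.Image
import Groth.Agent.SpecLib.Basic
import Groth.Agent.SpecLib.Constr
import Mathlib.AlgebraicGeometry.Morphisms.FinitePresentation
import Mathlib.AlgebraicGeometry.Noetherian

/-!
Pro- and ind-constructible subsets of schemes, tested on affine opens.
-/

set_option autoImplicit false
set_option linter.style.haveILetI false

universe u

open Topology TopologicalSpace AlgebraicGeometry CategoryTheory Set
open Groth.Agent.SpecLib

namespace Groth.Agent.EGA41Lib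

section top

variable {T : Type u} [TopologicalSpace T] [CompactSpace T] [QuasiSeparatedSpace T]

/-- A set open for the constructible topology is a union of constructible sets. -/
theorem co_iff_sUnion {E : Set T} : CO E ↔ ∃ S : Set (Set T), (∀ A ∈ S, IsConstructible A) ∧ E = ⋃₀ S := by
  constructor
  · intro h
    refine ⟨{A | IsConstructible A ∧ A ⊆ E}, fun A hA => hA.1, Subset.antisymm (fun x hx => ?_)
      (sUnion_subset fun A hA => hA.2)⟩
    have h' : TopologicalSpace.GenerateOpen (constructibleTopologySubbasis T) E := h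
    clear h
    induction h' generalizing x with
    | basic A hA =>
      refine ⟨A, ⟨?_, Subset.rfl⟩, hx⟩
      rcases hA with ⟨hA1, hA2⟩ | ⟨hA1, hA2⟩
      · exact hA2.isConstructible hA1
      · exact isConstructible_compl.mp (hA2.isConstructible hA1.isOpen_compl)
    | univ => exact ⟨univ, ⟨IsConstructible.univ, Subset.rfl⟩, trivial⟩
    | inter A B _ _ ihA ihB =>
      obtain ⟨a, ⟨ha, haA⟩, hxa⟩ := ihA x hx.1
      obtain ⟨b, ⟨hb, hbB⟩, hxb⟩ := ihB x hx.2
      exact ⟨a ∩ b, ⟨ha.inter hb, inter_subset_inter haA hbB⟩, hxa, hxb⟩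
    | sUnion S _ ih =>
      obtain ⟨A, hA, hxA⟩ := hx
      obtain ⟨a, ⟨ha, haA⟩, hxa⟩ := ih A hA x hxA
      exact ⟨a, ⟨ha, haA.trans (subset_sUnion_of_mem hA)⟩, hxa⟩
  · rintro ⟨S, hS, rfl⟩
    exact @isOpen_sUnion T (constructibleTopology T) S fun A hA => (cons_clopen (hS A hA)).2

/-- A set closed for the constructible topology is an intersection of constructible sets. -/
theorem cc_iff_sInter {E : Set T} : CC E ↔ ∃ S : Set (Set T), (∀ A ∈ S, IsConstructible A) ∧ E = ⋂₀ S := by
  constructor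
  · intro h
    obtain ⟨S, hS, hE⟩ := co_iff_sUnion.mp h.compl
    refine ⟨compl '' S, ?_, ?_⟩
    · rintro _ ⟨A, hA, rfl⟩
      exact (hS A hA).compl
    · rw [← compl_compl E, hE, compl_sUnion]
  · rintro ⟨S, hS, rfl⟩
    exact CC.sInter fun A hA => (cons_clopen (hS A hA)).1

variable [PrespectralSpace T] [QuasiSober T]

/-- Clopen sets of the constructible topology are constructible. -/
theorem isConstructible_of_cc_co {E : Set T} (h : CC E) (h' : CO E) : IsConstructible E := by
  obtain ⟨S, hS, hE⟩ := co_iff_sUnion.mp h'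
  obtain ⟨t, ht, htE⟩ := @IsCompact.elim_finite_subcover_image T (Set T) (constructibleTopology T) E S id
    h.isCompact_cons (fun A hA => (cons_clopen (hS A hA)).2)
    (by rw [hE, sUnion_eq_biUnion]; exact Subset.rfl)
  have h2 : E = ⋃ A ∈ t, A :=
    Subset.antisymm htE.2 (iUnion₂_subset fun A hA => hE ▸ subset_sUnion_of_mem (ht hA))
  rw [h2]
  exact IsConstructible.biUnion htE.1 fun A hA => hS A (ht hA)

end top

variable {X Y : Scheme.{u}}

theorem spectralSpace_affine {V : X.Opens} (hV : IsAffineOpen V) : SpectralSpace (V : Set X) := by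
  obtain ⟨_, _, _, _⟩ := ProConsLib.spectral_opens hV
  exact {}

theorem isSpectralMap_inclusion {V W : X.Opens} (hV : IsAffineOpen V) (hW : IsAffineOpen W) (h : W ≤ V) :
    IsSpectralMap (Set.inclusion (s := (W : Set X)) (t := (V : Set X)) h) := by
  have h' : W ≤ (𝟙 X : X ⟶ X) ⁻¹ᵁ V := fun x hx => h hx
  exact ProConsLib.isSpectralMap_of_affine (𝟙 X) hV hW h'

/-- Being closed for the constructible topology on an affine open is local. -/
theorem cc_affine_of_local {E : Set X} {V : X.Opens} (hV : IsAffineOpen V)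
    (h : ∀ x ∈ V, ∃ W : X.Opens, IsAffineOpen W ∧ x ∈ W ∧ W ≤ V ∧ CC (Subtype.val ⁻¹' E : Set (W : Set X))) :
    CC (Subtype.val ⁻¹' E : Set (V : Set X)) := by
  haveI := spectralSpace_affine hV
  choose W hW hxW hWV hWE using h
  obtain ⟨t, ht⟩ := (isCompact_univ (X := (V : Set X))).elim_finite_subcover
    (fun x : (V : Set X) => Subtype.val ⁻¹' (W x.1 x.2 : Set X))
    (fun x => (W x.1 x.2).isOpen.preimage continuous_subtype_val)
    (fun y _ => mem_iUnion.mpr ⟨y, hxW y.1 y.2⟩)
  have : (Subtype.val ⁻¹' E : Set (V : Set X)) =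
      ⋃ x ∈ t, Set.inclusion (hWV x.1 x.2) '' (Subtype.val ⁻¹' E) := by
    ext y
    simp only [mem_preimage, mem_iUnion, Set.mem_image, exists_prop]
    constructor
    · intro hy
      obtain ⟨x, hx, hyx⟩ := mem_iUnion₂.mp (ht (mem_univ y))
      exact ⟨x, hx, ⟨y.1, hyx⟩, hy, rfl⟩
    · rintro ⟨x, -, z, hz, rfl⟩
      exact hz
  rw [this]
  refine @Set.Finite.isClosed_biUnion _ _ (constructibleTopology _) _ _ t.finite_toSet fun x _ => ?_
  haveI := spectralSpace_affine (hW x.1 x.2)
  exact CC.image (isSpectralMap_inclusion hV (hW x.1 x.2) (hWV x.1 x.2)) (hWE x.1 x.2)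

theorem cc_affine_of_le {E : Set X} {V W : X.Opens} (hV : IsAffineOpen V) (hW : IsAffineOpen W) (h : W ≤ V)
    (hE : CC (Subtype.val ⁻¹' E : Set (V : Set X))) : CC (Subtype.val ⁻¹' E : Set (W : Set X)) :=
  CC.preimage (isSpectralMap_inclusion hV hW h) hE

/-- Pro-constructible sets are those closed for the constructible topology on each affine open. -/
theorem pro_iff {E : Set X} :
    ProCons.IsProConstructible E ↔ ∀ V : X.Opens, IsAffineOpen V → CC (Subtype.val ⁻¹' E : Set (V : Set X)) := by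
  constructor
  · intro hE V hV
    refine cc_affine_of_local hV fun x hx => ?_
    obtain ⟨W, hW, hxW, hWV, S, hS, hEW⟩ := ProConsLib.exists_affine_subset hE (O := V) hx
    obtain ⟨_, _, _, _⟩ := ProConsLib.spectral_opens hW
    exact ⟨W, hW, hxW, hWV, cc_iff_sInter.mpr ⟨S, hS, hEW⟩⟩
  · intro h
    refine ProConsLib.isProConstructible_of_affine fun x => ?_
    obtain ⟨_, ⟨V, hV, rfl⟩, hxV, -⟩ :=
      X.isBasis_affineOpens.exists_subset_of_mem_open (Set.mem_univ x) isOpen_univ
    obtain ⟨_, _, _, _⟩ := ProConsLib.spectral_opens hV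
    obtain ⟨S, hS, hE⟩ := cc_iff_sInter.mp (h V hV)
    exact ⟨V, hV, hxV, S, hS, hE⟩

theorem ind_iff_compl {T : Type*} [TopologicalSpace T] {E : Set T} :
    ProCons.IsIndConstructible E ↔ ProCons.IsProConstructible Eᶜ := by
  have hlc : ∀ {U : Type _} [TopologicalSpace U] {A : Set U}, IsLocallyConstructible A → IsLocallyConstructible Aᶜ :=
    fun hA x => (hA x).imp fun W hW => ⟨hW.1, hW.2.1, by rw [preimage_compl]; exact hW.2.2.compl⟩
  refine forall_congr' fun x => exists_congr fun U => and_congr_right fun _ => and_congr_right fun _ => ?_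
  constructor
  · rintro ⟨S, hS, hE⟩
    refine ⟨compl '' S, ?_, ?_⟩
    · rintro _ ⟨A, hA, rfl⟩; exact hlc (hS A hA)
    · rw [preimage_compl, hE, compl_sUnion]
  · rintro ⟨S, hS, hE⟩
    refine ⟨compl '' S, ?_, ?_⟩
    · rintro _ ⟨A, hA, rfl⟩; exact hlc (hS A hA)
    · rw [preimage_compl] at hE
      rw [← compl_compl (Subtype.val ⁻¹' E : Set U), hE, compl_sInter]

/-- Ind-constructible sets are those open for the constructible topology on each affine open. -/
theorem ind_iff {E : Set X} :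
    ProCons.IsIndConstructible E ↔ ∀ V : X.Opens, IsAffineOpen V → CO (Subtype.val ⁻¹' E : Set (V : Set X)) := by
  rw [ind_iff_compl, pro_iff]
  refine forall₂_congr fun V _ => ⟨fun h => ?_, fun h => h.compl⟩
  rw [← compl_compl (Subtype.val ⁻¹' E : Set (V : Set X)), ← preimage_compl]
  exact h.compl

/-- Locally constructible is both ind- and pro-constructible. -/
theorem lc_iff {E : Set X} :
    IsLocallyConstructible E ↔ ProCons.IsIndConstructible E ∧ ProCons.IsProConstructible E := by
  constructor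
  · intro h
    have h1 : ∀ V : X.Opens, IsAffineOpen V → IsConstructible (Subtype.val ⁻¹' E : Set (V : Set X)) := fun V hV => by
      obtain ⟨_, _, _, _⟩ := ProConsLib.spectral_opens hV
      exact (h.preimage_of_isOpenEmbedding V.isOpen.isOpenEmbedding_subtypeVal).isConstructible
    exact ⟨ind_iff.mpr fun V hV => by
        obtain ⟨_, _, _, _⟩ := ProConsLib.spectral_opens hV
        exact (cons_clopen (h1 V hV)).2,
      pro_iff.mpr fun V hV => by
        obtain ⟨_, _, _, _⟩ := ProConsLib.spectral_opens hV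
        exact (cons_clopen (h1 V hV)).1⟩
  · rintro ⟨hi, hp⟩ x
    obtain ⟨_, ⟨V, hV, rfl⟩, hxV, -⟩ :=
      X.isBasis_affineOpens.exists_subset_of_mem_open (Set.mem_univ x) isOpen_univ
    obtain ⟨_, _, _, _⟩ := ProConsLib.spectral_opens hV
    exact ⟨V, V.isOpen.mem_nhds hxV, V.isOpen,
      isConstructible_of_cc_co (pro_iff.mp hp V hV) (ind_iff.mp hi V hV)⟩

/-- Quasi-compact morphisms send pro-constructible sets to pro-constructible sets. -/
theorem pro_image (f : X ⟶ Y) [QuasiCompact f] {E : Set X} (hE : ProCons.IsProConstructible E) :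
    ProCons.IsProConstructible (f.base '' E) := by
  refine pro_iff.mpr fun V hV => ?_
  haveI := spectralSpace_affine hV
  obtain ⟨s, hs, hcov, hW⟩ := ProConsLib.exists_finite_cover hE f hV
  haveI : Finite s := hs.to_subtype
  have : (Subtype.val ⁻¹' (f.base '' E) : Set (V : Set Y)) = ⋃ W : s,
      (fun w : ↥((W : X.Opens) : Set X) => (⟨f.base w.1, (hW W.1 W.2).2.1 w.2⟩ : ↥(V : Set Y))) '' (Subtype.val ⁻¹' E) := by
    ext y
    simp only [mem_preimage, mem_iUnion, Set.mem_image]
    constructor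
    · rintro ⟨x, hx, hxy⟩
      obtain ⟨W, hWs, hxW⟩ := mem_iUnion₂.mp (hcov (show f.base x ∈ (V : Set Y) from hxy ▸ y.2))
      exact ⟨⟨W, hWs⟩, ⟨x, hxW⟩, hx, Subtype.ext hxy⟩
    · rintro ⟨W, w, hw, rfl⟩
      exact ⟨w.1, hw, rfl⟩
  rw [this]
  refine @isClosed_iUnion_of_finite _ _ (constructibleTopology _) _ _ fun W => ?_
  obtain ⟨hWa, hWV, S, hS, hEW⟩ := hW W.1 W.2
  haveI := spectralSpace_affine hWa
  exact CC.image (ProConsLib.isSpectralMap_of_affine f hV hWa hWV) (cc_iff_sInter.mpr ⟨S, hS, hEW⟩)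

/-- Morphisms locally of finite presentation send ind-constructible sets to ind-constructible sets. -/
theorem ind_image (f : X ⟶ Y) [LocallyOfFinitePresentation f] {E : Set X}
    (hE : ProCons.IsIndConstructible E) : ProCons.IsIndConstructible (f.base '' E) := by
  refine ind_iff.mpr fun V hV => ?_
  haveI := spectralSpace_affine hV
  rw [co_iff_sUnion]
  refine ⟨{A | IsConstructible A ∧ A ⊆ Subtype.val ⁻¹' (f.base '' E)}, fun A hA => hA.1,
    Subset.antisymm ?_ (sUnion_subset fun A hA => hA.2)⟩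
  rintro ⟨y, hy⟩ ⟨x, hx, hxy⟩
  obtain ⟨_, ⟨W, hW, rfl⟩, hxW, hWV⟩ :=
    X.isBasis_affineOpens.exists_subset_of_mem_open (show x ∈ f ⁻¹ᵁ V from by show f.base x ∈ V; rw [hxy]; exact hy) (f ⁻¹ᵁ V).isOpen
  haveI := spectralSpace_affine hW
  obtain ⟨S, hS, hEW⟩ := co_iff_sUnion.mp (ind_iff.mp hE W hW)
  obtain ⟨A, hA, hxA⟩ := mem_sUnion.mp ((Set.ext_iff.mp hEW ⟨x, hxW⟩).mp hx)
  haveI : IsAffine (V : Scheme) := hV
  haveI : IsAffine (W : Scheme) := hW
  have hWV' : W ≤ f ⁻¹ᵁ V := hWV
  let g := f.resLE V W hWV'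
  haveI : LocallyOfFinitePresentation g := inferInstanceAs (LocallyOfFinitePresentation (f.resLE V W hWV'))
  have hg : ∀ w, (g.base w).1 = f.base w.1 := fun w => congr($(Scheme.Hom.resLE_comp_ι f hWV').base w)
  refine ⟨g.base '' A, ⟨(Scheme.Hom.isLocallyConstructible_image g
    ((hS A hA).isLocallyConstructible)).isConstructible, ?_⟩, ⟨⟨x, hxW⟩, hxA, Subtype.ext ((hg _).trans hxy)⟩⟩
  rintro _ ⟨w, hw, rfl⟩
  exact ⟨w.1, (hEW ▸ subset_sUnion_of_mem hA) hw, (hg w).symm⟩

end Groth.Agent.EGA41Lib
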