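import Groth.Agent.EGA41Lib.ConsX
import Groth.Agent.SpecLib.Limit

/-! The constructible topology of a quasi-separated scheme. -/

set_option autoImplicit false

universe u

open Topology TopologicalSpace AlgebraicGeometry Set
open Groth.Agent.SpecLib

namespace Groth.Agent.EGA41Lib

variable {X : Scheme.{u}} [QuasiSeparatedSpace X]

theorem isSpectralMap_val {V : X.Opens} (hV : IsAffineOpen V) :
    IsSpectralMap (Subtype.val : ((V : Set X) : Type u) → X) := by
  refine ⟨continuous_subtype_val, fun U hU hU' => ?_⟩
  rw [V.isOpen.isOpenEmbedding_subtypeVal.isEmbedding.isCompact_iff, Subtype.image_preimage_coe]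
  exact QuasiSeparatedSpace.inter_isCompact _ _ V.isOpen hV.isCompact hU hU'

theorem co_image_val {V : X.Opens} (hV : IsAffineOpen V) {A : Set (V : Set X)} (hA : CO A) :
    CO (Subtype.val '' A : Set X) := by
  have hemb := V.isOpen.isOpenEmbedding_subtypeVal
  have hVco : CO (V : Set X) := co_of_isOpen_isCompact V.isOpen hV.isCompact
  have h' : TopologicalSpace.GenerateOpen (constructibleTopologySubbasis (V : Set X)) A := hA
  clear hA
  induction h' with
  | basic A hA =>
    rcases hA with ⟨hA1, hA2⟩ | ⟨hA1, hA2⟩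
    · exact co_of_isOpen_isCompact (hemb.isOpenMap A hA1) (hA2.image continuous_subtype_val)
    · have h1 : CO ((Subtype.val '' Aᶜ : Set X))ᶜ :=
        (cc_of_isOpen_isCompact (hemb.isOpenMap _ hA1.isOpen_compl) (hA2.image continuous_subtype_val)).compl
      have : (Subtype.val '' A : Set X) = (V : Set X) ∩ (Subtype.val '' Aᶜ)ᶜ := by
        ext x
        constructor
        · rintro ⟨a, ha, rfl⟩
          exact ⟨a.2, fun ⟨b, hb, hba⟩ => hb (Subtype.ext hba ▸ ha)⟩
        · rintro ⟨hx, hx'⟩
          exact ⟨⟨x, hx⟩, by_contra fun h => hx' ⟨⟨x, hx⟩, h, rfl⟩, rfl⟩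
      rw [this]
      exact hVco.inter h1
  | univ => rw [Set.image_univ, Subtype.range_coe]; exact hVco
  | inter A B _ _ ihA ihB => rw [Set.image_inter Subtype.val_injective]; exact ihA.inter ihB
  | sUnion S _ ih =>
    rw [Set.sUnion_eq_iUnion, Set.image_iUnion]
    exact CO.iUnion fun A => ih A.1 A.2

theorem co_iff_ind {E : Set X} : CO E ↔ ProCons.IsIndConstructible E := by
  rw [ind_iff]
  constructor
  · intro h V hV
    have := CC.preimage (isSpectralMap_val hV) h.compl
    rw [Set.preimage_compl] at this
    exact compl_compl (Subtype.val ⁻¹' E : Set (V : Set X)) ▸ this.compl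
  · intro h
    have : E = ⋃ V : X.affineOpens, Subtype.val '' (Subtype.val ⁻¹' E : Set (V.1 : Set X)) := by
      ext x
      simp only [Set.mem_iUnion, Subtype.image_preimage_coe, Set.mem_inter_iff]
      constructor
      · intro hx
        obtain ⟨_, ⟨V, hV, rfl⟩, hxV, -⟩ :=
          X.isBasis_affineOpens.exists_subset_of_mem_open (Set.mem_univ x) isOpen_univ
        exact ⟨⟨V, hV⟩, hxV, hx⟩
      · rintro ⟨V, -, hx⟩; exact hx
    rw [this]
    exact CO.iUnion fun V => co_image_val V.2 (h V.1 V.2)

theorem cc_iff_pro {E : Set X} : CC E ↔ ProCons.IsProConstructible E := by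
  constructor
  · intro h
    rw [← compl_compl E]
    exact ind_iff_compl.mp (co_iff_ind.mp h.compl)
  · intro h
    have := (co_iff_ind.mpr (ind_iff_compl.mpr (by rwa [compl_compl] : ProCons.IsProConstructible Eᶜᶜ))).compl
    rwa [compl_compl] at this

theorem locallyCompactSpace_cons : LocallyCompactSpace (WithConstructibleTopology X) := by
  haveI := t2Space_W (X := X)
  haveI : WeaklyLocallyCompactSpace (WithConstructibleTopology X) := ⟨fun v => by
    obtain ⟨_, ⟨V, hV, rfl⟩, hxV, -⟩ :=
      X.isBasis_affineOpens.exists_subset_of_mem_open (Set.mem_univ v.ofTopology) isOpen_univ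
    haveI := spectralSpace_affine hV
    refine ⟨{w | w.ofTopology ∈ (V : Set X)}, ?_,
      IsOpen.mem_nhds (WithConstructibleTopology.isOpen_iff.mpr
        (co_of_isOpen_isCompact (U := (V : Set X)) V.isOpen hV.isCompact : CO (V : Set X))) hxV⟩
    have h := isCompact_range (continuous_mapW (isSpectralMap_val hV))
    convert h using 1
    ext w
    constructor
    · intro hw
      exact ⟨WithTopology.toTopology _ ⟨w.ofTopology, hw⟩, rfl⟩
    · rintro ⟨z, rfl⟩
      exact z.ofTopology.2⟩
  infer_instance

end Groth.Agent.EGA41Lib
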