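import Groth.Prelude.Def_Exal2
import Groth.Prelude.Def_Exal3
import Groth.Prelude.Def_EGA41
import Mathlib.RingTheory.Kaehler.Basic
import Mathlib.RingTheory.Smooth.Basic

/-!
Extensions with a section, their derivations and characteristic homomorphisms.
-/

set_option autoImplicit false
set_option linter.style.haveILetI false

universe u v

open TensorProduct Exal

namespace Groth.Agent.EGA41Lib.ExalX

section basic

variable {A : Type u} {B L : Type v} [CommRing A] [CommRing B] [Algebra A B] [AddCommGroup L] [Module B L]
variable (X : Ext A B L)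

theorem proj_incl (z : L) : X.proj (X.incl z) = 0 := (X.isExtension.exact _).2 ⟨z, rfl⟩

theorem incl_mul_incl (z z' : L) : X.incl z * X.incl z' = 0 := by
  rw [X.isExtension.mul_incl, proj_incl, zero_smul, map_zero]

theorem kerLift_incl (z : L) (h : X.proj (X.incl z) = 0) : X.kerLift (X.incl z) h = z :=
  X.isExtension.incl_injective (X.incl_kerLift _ _)

variable (s : B →+* X.E) (hs : ∀ b, X.proj (s b) = b)

/-- The component in the kernel module, relative to a section. -/
noncomputable def sndS (x : X.E) : L :=
  X.kerLift (x - s (X.proj x)) (by rw [map_sub, hs, sub_self])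

theorem sndS_spec (x : X.E) : s (X.proj x) + X.incl (sndS X s hs x) = x := by
  rw [sndS, X.incl_kerLift, add_sub_cancel]

include hs in
theorem proj_add_incl (b : B) (z : L) : X.proj (s b + X.incl z) = b := by
  rw [map_add, hs, proj_incl, add_zero]

theorem sndS_eq {x : X.E} {b : B} {z : L} (h : x = s b + X.incl z) : sndS X s hs x = z := by
  apply X.isExtension.incl_injective
  rw [sndS, X.incl_kerLift, h, proj_add_incl X s hs, add_sub_cancel_left]

theorem sndS_incl (z : L) : sndS X s hs (X.incl z) = z :=
  sndS_eq X s hs (b := 0) (by rw [map_zero, zero_add])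

theorem sndS_section (b : B) : sndS X s hs (s b) = 0 :=
  sndS_eq X s hs (b := b) (by rw [map_zero, add_zero])

include hs in
theorem mul_eq {b b' : B} {z z' : L} :
    (s b + X.incl z) * (s b' + X.incl z') = s (b * b') + X.incl (b • z' + b' • z) := by
  rw [add_mul, mul_add, mul_add, incl_mul_incl, X.isExtension.mul_incl, mul_comm (X.incl z),
    X.isExtension.mul_incl, hs, hs, ← map_mul, map_add, add_zero]
  abel

theorem sndS_add (x y : X.E) : sndS X s hs (x + y) = sndS X s hs x + sndS X s hs y := by
  refine sndS_eq X s hs (b := X.proj x + X.proj y) ?_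
  conv_lhs => rw [← sndS_spec X s hs x, ← sndS_spec X s hs y]
  rw [map_add, map_add]
  abel

theorem sndS_mul (x y : X.E) :
    sndS X s hs (x * y) = X.proj x • sndS X s hs y + X.proj y • sndS X s hs x := by
  refine sndS_eq X s hs (b := X.proj x * X.proj y) ?_
  conv_lhs => rw [← sndS_spec X s hs x, ← sndS_spec X s hs y]
  rw [mul_eq X s hs]

theorem sndS_section_mul (b : B) (x : X.E) : sndS X s hs (s b * x) = b • sndS X s hs x := by
  rw [sndS_mul, sndS_section, smul_zero, add_zero, hs]

end basic

section relative

variable {A : Type u} {B C L : Type v} [CommRing A] [CommRing B] [CommRing C] [Algebra A B] [Algebra B C]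
  [Algebra A C] [IsScalarTower A B C] [AddCommGroup L] [Module C L]
variable (X : Ext B C L)

/-- An `A`-algebra section of an extension. -/
structure Sect (A : Type u) [CommRing A] [Algebra A B] [Algebra A C] [IsScalarTower A B C] (X : Ext B C L) where
  /-- The section. -/
  toAlgHom : C →ₐ[A] X.CharCarrier A
  proj_apply : ∀ c, X.proj (toAlgHom c) = c

theorem nonempty_sect (h : X.IsTrivialOver A) : Nonempty (Sect A X) :=
  let ⟨s, hs⟩ := h
  ⟨⟨{ toFun := fun c => (s c : X.E)
      map_one' := map_one s
      map_mul' := map_mul s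
      map_zero' := map_zero s
      map_add' := map_add s
      commutes' := fun a => s.commutes a }, hs⟩⟩

variable {X}

/-- The ring map underlying a section. -/
def Sect.hom (σ : Sect A X) : C →+* X.E := σ.toAlgHom.toRingHom

theorem Sect.hom_apply (σ : Sect A X) (c : C) : σ.hom c = σ.toAlgHom c := rfl

theorem Sect.hs (σ : Sect A X) (c : C) : X.proj (σ.hom c) = c := σ.proj_apply c

theorem Sect.hom_algebraMap (σ : Sect A X) (a : A) :
    σ.hom (algebraMap A C a) = algebraMap B X.E (algebraMap A B a) := σ.toAlgHom.commutes a

theorem Sect.isTrivialOver (σ : Sect A X) : X.IsTrivialOver A :=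
  ⟨{ toFun := fun c => (σ.hom c : X.RestrictCarrier A)
     map_one' := map_one σ.hom
     map_mul' := map_mul σ.hom
     map_zero' := map_zero σ.hom
     map_add' := map_add σ.hom
     commutes' := fun a => σ.hom_algebraMap a }, σ.proj_apply⟩

variable [Module A L] [Module B L] [IsScalarTower A C L] [IsScalarTower B C L]

/-- The derivation of an extension with a section. -/
noncomputable def Sect.der (σ : Sect A X) : Derivation A B L :=
  Derivation.mk'
    { toFun := fun b => sndS X σ.hom σ.hs (algebraMap B X.E b)
      map_add' := fun x y => by rw [map_add, sndS_add]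
      map_smul' := fun a b => by
        rw [RingHom.id_apply, Algebra.smul_def, map_mul, ← σ.hom_algebraMap, sndS_section_mul,
          IsScalarTower.algebraMap_smul] }
    fun x y => by
      show sndS X σ.hom σ.hs (algebraMap B X.E (x * y)) =
        x • sndS X σ.hom σ.hs (algebraMap B X.E y) + y • sndS X σ.hom σ.hs (algebraMap B X.E x)
      rw [map_mul, sndS_mul, AlgHom.commutes, AlgHom.commutes, IsScalarTower.algebraMap_smul,
        IsScalarTower.algebraMap_smul]

theorem Sect.der_apply (σ : Sect A X) (b : B) : σ.der b = sndS X σ.hom σ.hs (algebraMap B X.E b) := rfl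

theorem Sect.algebraMap_eq (σ : Sect A X) (b : B) :
    algebraMap B X.E b = σ.hom (algebraMap B C b) + X.incl (σ.der b) := by
  have := sndS_spec X σ.hom σ.hs (algebraMap B X.E b)
  rw [X.proj.commutes] at this
  exact this.symm

/-- Changing a section by a derivation of `C`. -/
noncomputable def Sect.shift (σ : Sect A X) (D : Derivation A C L) : Sect A X where
  toAlgHom :=
    { toFun := fun c => σ.hom c + X.incl (D c)
      map_one' := by
        show σ.hom 1 + X.incl (D 1) = (1 : X.E)
        rw [D.map_one_eq_zero, map_zero, add_zero, map_one]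
      map_mul' := fun c c' => by
        show σ.hom (c * c') + X.incl (D (c * c')) = (σ.hom c + X.incl (D c)) * (σ.hom c' + X.incl (D c'))
        rw [mul_eq X σ.hom σ.hs, D.leibniz]
      map_zero' := by
        show σ.hom 0 + X.incl (D 0) = (0 : X.E)
        rw [map_zero, map_zero, map_zero, add_zero]
      map_add' := fun c c' => by
        show σ.hom (c + c') + X.incl (D (c + c')) = (σ.hom c + X.incl (D c)) + (σ.hom c' + X.incl (D c'))
        rw [map_add, map_add, map_add]
        abel
      commutes' := fun a => by
        show σ.hom (algebraMap A C a) + X.incl (D (algebraMap A C a)) = algebraMap B X.E (algebraMap A B a)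
        rw [D.map_algebraMap, map_zero, add_zero, σ.hom_algebraMap] }
  proj_apply := fun c => proj_add_incl X σ.hom σ.hs c (D c)

theorem Sect.shift_der (σ : Sect A X) (D : Derivation A C L) (b : B) :
    (σ.shift D).der b = σ.der b - D (algebraMap B C b) := by
  refine sndS_eq X (σ.shift D).hom (σ.shift D).hs (b := algebraMap B C b) ?_
  show algebraMap B X.E b = σ.hom (algebraMap B C b) + X.incl (D (algebraMap B C b)) + X.incl (σ.der b - D (algebraMap B C b))
  rw [σ.algebraMap_eq b, map_sub]
  abel

/-- Extensions with sections having the same derivation are equivalent. -/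
theorem nonempty_equiv_of_der_eq {Y : Ext B C L} (σ : Sect A X) (τ : Sect A Y) (h : ∀ b, σ.der b = τ.der b) :
    Nonempty (X.Equiv Y) := by
  let φ : X.E → Y.E := fun x => τ.hom (X.proj x) + Y.incl (sndS X σ.hom σ.hs x)
  let ψ : Y.E → X.E := fun y => σ.hom (Y.proj y) + X.incl (sndS Y τ.hom τ.hs y)
  have h1 : ∀ x, ψ (φ x) = x := fun x => by
    show σ.hom (Y.proj (φ x)) + X.incl (sndS Y τ.hom τ.hs (φ x)) = x
    rw [sndS_eq Y τ.hom τ.hs (rfl : φ x = _), proj_add_incl Y τ.hom τ.hs, sndS_spec]
  have h2 : ∀ y, φ (ψ y) = y := fun y => by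
    show τ.hom (X.proj (ψ y)) + Y.incl (sndS X σ.hom σ.hs (ψ y)) = y
    rw [sndS_eq X σ.hom σ.hs (rfl : ψ y = _), proj_add_incl X σ.hom σ.hs, sndS_spec]
  let Φ : X.E ≃ₐ[B] Y.E :=
    { toFun := φ
      invFun := ψ
      left_inv := h1
      right_inv := h2
      map_mul' := fun x y => by
        show τ.hom (X.proj (x * y)) + Y.incl _ = (τ.hom (X.proj x) + Y.incl _) * (τ.hom (X.proj y) + Y.incl _)
        rw [mul_eq Y τ.hom τ.hs, map_mul, sndS_mul]
      map_add' := fun x y => by
        show τ.hom (X.proj (x + y)) + Y.incl _ = (τ.hom (X.proj x) + Y.incl _) + (τ.hom (X.proj y) + Y.incl _)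
        rw [map_add, sndS_add, map_add, map_add]
        abel
      commutes' := fun b => by
        show τ.hom (X.proj (algebraMap B X.E b)) + Y.incl (σ.der b) = algebraMap B Y.E b
        rw [X.proj.commutes, h, τ.algebraMap_eq b] }
  refine ⟨⟨Φ, fun x => proj_add_incl Y τ.hom τ.hs _ _, fun z => ?_⟩⟩
  show τ.hom (X.proj (X.incl z)) + Y.incl (sndS X σ.hom σ.hs (X.incl z)) = Y.incl z
  rw [proj_incl, sndS_incl, map_zero, zero_add]

variable [IsScalarTower A B L]

/-- The `C`-linear map attached to a derivation of `B`. -/
noncomputable def phi (d : Derivation A B L) : C ⊗[B] Ω[B⁄A] →ₗ[C] L :=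
  d.liftKaehlerDifferential.liftBaseChange C

theorem phi_tmul (d : Derivation A B L) (c : C) (b : B) :
    phi (C := C) d (c ⊗ₜ KaehlerDifferential.D A B b) = c • d b := by
  simp [phi]

omit [Module A L] [Module B L] [IsScalarTower A C L] [IsScalarTower B C L] [IsScalarTower A B L] in
theorem deltaL_smul (c : C) (z : L) : X.deltaL A (c • z) = c • X.deltaL A z := by
  obtain ⟨e, rfl⟩ := X.isExtension.proj_surjective c
  show (1 : C) ⊗ₜ[X.CharCarrier A] KaehlerDifferential.D A (X.CharCarrier A) (X.inclC A (X.proj e • z)) =
    X.proj e • ((1 : C) ⊗ₜ[X.CharCarrier A] KaehlerDifferential.D A (X.CharCarrier A) (X.inclC A z))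
  let e' : X.CharCarrier A := e
  have h1 : X.inclC A (X.proj e • z) = e' * X.inclC A z :=
    (X.isExtension.mul_incl e z).symm
  have h2 : (X.inclC A z : X.CharCarrier A) • (1 : C) = 0 := by
    rw [Algebra.smul_def, mul_one]
    exact proj_incl X z
  rw [h1, Derivation.leibniz, tmul_add, ← smul_tmul, ← smul_tmul, h2, zero_tmul, add_zero, smul_tmul']
  rfl

theorem Sect.deltaL_injective (σ : Sect A X) : Function.Injective (X.deltaL A) := by
  letI : Module (X.CharCarrier A) L := Module.compHom L (algebraMap (X.CharCarrier A) C)
  haveI : IsScalarTower (X.CharCarrier A) C L := IsScalarTower.of_algebraMap_smul fun _ _ => rfl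
  haveI : IsScalarTower A (X.CharCarrier A) L := IsScalarTower.of_algebraMap_smul fun a z => by
    show algebraMap (X.CharCarrier A) C (algebraMap A (X.CharCarrier A) a) • z = a • z
    rw [← IsScalarTower.algebraMap_apply, IsScalarTower.algebraMap_smul]
  let D : Derivation A (X.CharCarrier A) L := Derivation.mk'
    { toFun := fun x => sndS X σ.hom σ.hs x
      map_add' := sndS_add X σ.hom σ.hs
      map_smul' := fun a x => by
        rw [RingHom.id_apply, Algebra.smul_def]
        show sndS X σ.hom σ.hs (@HMul.hMul X.E X.E X.E _ (algebraMap B X.E (algebraMap A B a)) x) = a • _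
        rw [← σ.hom_algebraMap]
        exact (sndS_section_mul X σ.hom σ.hs (algebraMap A C a) x).trans (IsScalarTower.algebraMap_smul C a _) }
    fun x y => sndS_mul X σ.hom σ.hs x y
  refine Function.LeftInverse.injective (g := D.liftKaehlerDifferential.liftBaseChange C) fun z => ?_
  show D.liftKaehlerDifferential.liftBaseChange C ((1 : C) ⊗ₜ[X.CharCarrier A] KaehlerDifferential.D A _ (X.inclC A z)) = z
  rw [LinearMap.liftBaseChange_tmul, one_smul, Derivation.liftKaehlerDifferential_comp_D]
  exact sndS_incl X σ.hom σ.hs z

theorem Sect.baseChangeToMiddle_eq (σ : Sect A X) (u : C ⊗[B] Ω[B⁄A]) (hu : u ∈ EGA41.imperfection A B C) :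
    X.baseChangeToMiddle A u = X.deltaL A (phi σ.der u) := by
  let D : Derivation A C (C ⊗[X.CharCarrier A] Ω[X.CharCarrier A⁄A]) := Derivation.mk'
    { toFun := fun c => (1 : C) ⊗ₜ KaehlerDifferential.D A (X.CharCarrier A) (σ.toAlgHom c)
      map_add' := fun c c' => by rw [map_add, map_add, tmul_add]
      map_smul' := fun a c => by
        rw [RingHom.id_apply, map_smul, Derivation.map_smul, tmul_smul] }
    fun c c' => by
      show (1 : C) ⊗ₜ KaehlerDifferential.D A (X.CharCarrier A) (σ.toAlgHom (c * c')) =
        c • ((1 : C) ⊗ₜ KaehlerDifferential.D A (X.CharCarrier A) (σ.toAlgHom c')) +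
          c' • ((1 : C) ⊗ₜ KaehlerDifferential.D A (X.CharCarrier A) (σ.toAlgHom c))
      have h1 : ∀ e : C, (σ.toAlgHom e) • (1 : C) = e := fun e => by
        rw [Algebra.smul_def, mul_one]
        exact σ.proj_apply e
      rw [map_mul, Derivation.leibniz, tmul_add, ← smul_tmul, ← smul_tmul, h1, h1, smul_tmul', smul_tmul',
        smul_eq_mul, smul_eq_mul, mul_one, mul_one]
  have key : ∀ w : C ⊗[B] Ω[B⁄A], X.baseChangeToMiddle A w =
      X.deltaL A (phi σ.der w) + D.liftKaehlerDifferential (KaehlerDifferential.mapBaseChange A B C w) := by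
    intro w
    induction w with
    | zero => simp only [map_zero, add_zero]
    | add x y hx hy => simp only [map_add, hx, hy]; abel
    | tmul c ω =>
      have hω : ω ∈ Submodule.span B (Set.range (KaehlerDifferential.D A B)) :=
        KaehlerDifferential.span_range_derivation A B ▸ trivial
      induction hω using Submodule.span_induction generalizing c with
      | zero => simp only [tmul_zero, map_zero, add_zero]
      | add x y _ _ hx hy => simp only [tmul_add, map_add, hx, hy]; abel
      | smul b x _ hx => rw [← smul_tmul]; exact hx _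
      | mem x hx =>
        obtain ⟨b, rfl⟩ := hx
        rw [phi_tmul, deltaL_smul, KaehlerDifferential.mapBaseChange_tmul, KaehlerDifferential.map_D, map_smul,
          Derivation.liftKaehlerDifferential_comp_D]
        show c ⊗ₜ[X.CharCarrier A] KaehlerDifferential.map A A B (X.CharCarrier A) (KaehlerDifferential.D A B b) = _
        rw [KaehlerDifferential.map_D]
        show c ⊗ₜ[X.CharCarrier A] KaehlerDifferential.D A (X.CharCarrier A) (algebraMap B (X.CharCarrier A) b) =
          c • ((1 : C) ⊗ₜ KaehlerDifferential.D A _ (X.inclC A (σ.der b))) +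
            c • ((1 : C) ⊗ₜ KaehlerDifferential.D A _ (σ.toAlgHom (algebraMap B C b)))
        rw [smul_tmul', smul_tmul', smul_eq_mul, mul_one, ← tmul_add, ← map_add]
        congr 2
        rw [add_comm]
        exact σ.algebraMap_eq b
  have hu' : KaehlerDifferential.mapBaseChange A B C u = 0 := hu
  rw [key u, hu', map_zero, add_zero]

/-- The characteristic homomorphism given by a section. -/
theorem Sect.isCharHom (σ : Sect A X) :
    X.IsCharHom A ((phi σ.der).comp (EGA41.imperfection A B C).subtype) :=
  fun z => (σ.baseChangeToMiddle_eq z.1 z.2).symm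

theorem Sect.charHom_eq (σ : Sect A X) {χ : EGA41.imperfection A B C →ₗ[C] L} (hχ : X.IsCharHom A χ) :
    χ = (phi σ.der).comp (EGA41.imperfection A B C).subtype :=
  LinearMap.ext fun z => σ.deltaL_injective ((hχ z).trans (σ.isCharHom z).symm)

/-- The section of the extension attached to a derivation. -/
noncomputable def derSect (d : Derivation A B L) : Sect A (Ext.ofDerivation (C := C) d) where
  toAlgHom :=
    { toFun := fun c => (TrivSqZeroExt.inl c : TrivSqZeroExt C L)
      map_one' := TrivSqZeroExt.inl_one L
      map_mul' := fun x y => by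
        letI := Exal.opModule C L
        haveI := Exal.isCentralScalar_opModule C L
        exact TrivSqZeroExt.inl_mul L x y
      map_zero' := TrivSqZeroExt.inl_zero L
      map_add' := TrivSqZeroExt.inl_add L
      commutes' := fun a => by
        show (TrivSqZeroExt.inl (algebraMap A C a) : TrivSqZeroExt C L) =
          TrivSqZeroExt.inl (algebraMap B C (algebraMap A B a)) + TrivSqZeroExt.inr (d (algebraMap A B a))
        rw [d.map_algebraMap, TrivSqZeroExt.inr_zero, add_zero, ← IsScalarTower.algebraMap_apply] }
  proj_apply := fun _ => rfl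

theorem derSect_der (d : Derivation A B L) (b : B) : (derSect (C := C) d).der b = d b :=
  sndS_eq (Ext.ofDerivation (C := C) d) (derSect (C := C) d).hom (derSect (C := C) d).hs (b := algebraMap B C b) rfl

end relative

end Groth.Agent.EGA41Lib.ExalX
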