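import Groth.Agent.EGA41Lib.ExalBasic
import Mathlib.Algebra.Module.Injective
import Mathlib.Algebra.Module.Projective

/-!
Existence, uniqueness and injectivity for characteristic homomorphisms.
-/

set_option autoImplicit false
set_option linter.style.haveILetI false

universe u v

open TensorProduct Exal

namespace Groth.Agent.EGA41Lib.ExalX

variable {A : Type u} {B C L : Type v} [CommRing A] [CommRing B] [CommRing C] [Algebra A B] [Algebra B C]
  [Algebra A C] [IsScalarTower A B C] [AddCommGroup L] [Module C L]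

/-- Every extension of a formally smooth algebra has a section. -/
theorem sect_of_formallySmooth [Algebra.FormallySmooth A C] (X : Ext B C L) : Nonempty (Sect A X) := by
  let g : X.CharCarrier A →ₐ[A] C := IsScalarTower.toAlgHom A (X.CharCarrier A) C
  have hg : Function.Surjective g := X.isExtension.proj_surjective
  have hnil : IsNilpotent (RingHom.ker (g : X.CharCarrier A →+* C)) := by
    refine ⟨2, le_bot_iff.mp ?_⟩
    rw [pow_two, Ideal.mul_le]
    intro x hx y hy
    obtain ⟨z, rfl⟩ := (X.isExtension.exact x).mp hx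
    obtain ⟨z', rfl⟩ := (X.isExtension.exact y).mp hy
    exact Ideal.mem_bot.mpr (incl_mul_incl X z z')
  exact ⟨⟨Algebra.FormallySmooth.liftOfSurjective (AlgHom.id A C) g hg hnil,
    fun c => Algebra.FormallySmooth.liftOfSurjective_apply (AlgHom.id A C) g hg hnil c⟩⟩

/-- The retraction condition follows from formal smoothness and projectivity. -/
theorem split_of_formallySmooth [Algebra.FormallySmooth A C] [Module.Projective C Ω[C⁄B]] :
    (∃ r : C ⊗[B] Ω[B⁄A] →ₗ[C] ↥(EGA41.imperfection A B C), ∀ z : ↥(EGA41.imperfection A B C), r z = z) ∧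
      ∃ s : Ω[C⁄B] →ₗ[C] Ω[C⁄A], ∀ ω : Ω[C⁄B], KaehlerDifferential.map A B C C (s ω) = ω := by
  obtain ⟨s, hs⟩ := Module.projective_lifting_property (KaehlerDifferential.map A B C C) LinearMap.id
    (KaehlerDifferential.map_surjective A B C)
  have hs' : ∀ ω : Ω[C⁄B], KaehlerDifferential.map A B C C (s ω) = ω := fun ω => LinearMap.congr_fun hs ω
  refine ⟨?_, s, hs'⟩
  let m := KaehlerDifferential.mapBaseChange A B C
  have hmem : ∀ ω : Ω[C⁄A], ω - s (KaehlerDifferential.map A B C C ω) ∈ LinearMap.range m := fun ω =>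
    (KaehlerDifferential.exact_mapBaseChange_map A B C _).mp (by rw [map_sub, hs', sub_self])
  let pr : Ω[C⁄A] →ₗ[C] LinearMap.range m :=
    (LinearMap.id - s.comp (KaehlerDifferential.map A B C C)).codRestrict _ hmem
  have hpr : pr.comp (LinearMap.range m).subtype = LinearMap.id := LinearMap.ext fun x => Subtype.ext (by
    have : KaehlerDifferential.map A B C C x.1 = 0 := (KaehlerDifferential.exact_mapBaseChange_map A B C _).mpr x.2
    show x.1 - s (KaehlerDifferential.map A B C C x.1) = x.1
    rw [this, map_zero, sub_zero])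
  haveI : Module.Projective C (LinearMap.range m) := Module.Projective.of_split (LinearMap.range m).subtype pr hpr
  obtain ⟨t, ht⟩ := Module.projective_lifting_property m.rangeRestrict LinearMap.id m.surjective_rangeRestrict
  have hmem' : ∀ u : C ⊗[B] Ω[B⁄A], (LinearMap.id - t.comp m.rangeRestrict : C ⊗[B] Ω[B⁄A] →ₗ[C] C ⊗[B] Ω[B⁄A]) u ∈ EGA41.imperfection A B C := by
    intro u
    show m (u - t (m.rangeRestrict u)) = 0
    have h1 : m.rangeRestrict (t (m.rangeRestrict u)) = m.rangeRestrict u := LinearMap.congr_fun ht _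
    rw [map_sub, sub_eq_zero]
    exact (congrArg Subtype.val h1).symm
  refine ⟨(LinearMap.id - t.comp m.rangeRestrict).codRestrict _ hmem', ?_⟩
  · intro z
    apply Subtype.ext
    have h1 : m.rangeRestrict z.1 = 0 := Subtype.ext z.2
    show z.1 - t (m.rangeRestrict z.1) = z.1
    rw [h1, map_zero, sub_zero]

/-- A map killing the imperfection module extends along `mapBaseChange`. -/
theorem exists_extend (h : Module.Injective C L ∨ ∃ s : Ω[C⁄B] →ₗ[C] Ω[C⁄A],
      ∀ ω : Ω[C⁄B], KaehlerDifferential.map A B C C (s ω) = ω)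
    (ψ : C ⊗[B] Ω[B⁄A] →ₗ[C] L) (hψ : EGA41.imperfection A B C ≤ LinearMap.ker ψ) :
    ∃ ℓ : Ω[C⁄A] →ₗ[C] L, ∀ u, ℓ (KaehlerDifferential.mapBaseChange A B C u) = ψ u := by
  let m := KaehlerDifferential.mapBaseChange A B C
  let g : LinearMap.range m →ₗ[C] L :=
    ((LinearMap.ker m).liftQ ψ hψ).comp (LinearMap.quotKerEquivRange m).symm.toLinearMap
  have hg : ∀ u, g ⟨m u, LinearMap.mem_range_self m u⟩ = ψ u := fun u => by
    have h1 : (LinearMap.quotKerEquivRange m).symm ⟨m u, LinearMap.mem_range_self m u⟩ = Submodule.Quotient.mk u :=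
      (LinearEquiv.symm_apply_eq _).mpr (Subtype.ext (LinearMap.quotKerEquivRange_apply_mk m u).symm)
    show (LinearMap.ker m).liftQ ψ hψ _ = ψ u
    erw [h1]
    rfl
  rcases h with h | ⟨s, hs⟩
  · obtain ⟨ℓ, hℓ⟩ := h.out (LinearMap.range m).subtype Subtype.val_injective g
    exact ⟨ℓ, fun u => (hℓ ⟨m u, LinearMap.mem_range_self m u⟩).trans (hg u)⟩
  · have hmem : ∀ ω : Ω[C⁄A], ω - s (KaehlerDifferential.map A B C C ω) ∈ LinearMap.range m := fun ω =>
      (KaehlerDifferential.exact_mapBaseChange_map A B C _).mp (by rw [map_sub, hs, sub_self])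
    refine ⟨g.comp ((LinearMap.id - s.comp (KaehlerDifferential.map A B C C)).codRestrict _ hmem), fun u => ?_⟩
    rw [← hg u, LinearMap.comp_apply]
    congr 1
    apply Subtype.ext
    show m u - s (KaehlerDifferential.map A B C C (m u)) = m u
    rw [(KaehlerDifferential.exact_mapBaseChange_map A B C).apply_apply_eq_zero, map_zero, sub_zero]

variable [Module A L] [Module B L] [IsScalarTower A C L] [IsScalarTower B C L] [IsScalarTower A B L]

/-- Extensions with sections and the same characteristic homomorphism are equivalent. -/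
theorem nonempty_equiv_of_charHom_eq (h : Module.Injective C L ∨ ∃ s : Ω[C⁄B] →ₗ[C] Ω[C⁄A],
      ∀ ω : Ω[C⁄B], KaehlerDifferential.map A B C C (s ω) = ω)
    {X Y : Ext B C L} (σ : Sect A X) (τ : Sect A Y) {χ : EGA41.imperfection A B C →ₗ[C] L}
    (hX : X.IsCharHom A χ) (hY : Y.IsCharHom A χ) : Nonempty (X.Equiv Y) := by
  obtain ⟨ℓ, hℓ⟩ := exists_extend h (phi σ.der - phi τ.der) (fun u hu => by
    have := LinearMap.congr_fun ((σ.charHom_eq hX).symm.trans (τ.charHom_eq hY)) ⟨u, hu⟩
    rw [LinearMap.mem_ker, LinearMap.sub_apply, sub_eq_zero]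
    exact this)
  let D : Derivation A C L := ℓ.compDer (KaehlerDifferential.D A C)
  refine nonempty_equiv_of_der_eq (σ.shift D) τ fun b => ?_
  have h1 := hℓ ((1 : C) ⊗ₜ KaehlerDifferential.D A B b)
  rw [KaehlerDifferential.mapBaseChange_tmul, one_smul, KaehlerDifferential.map_D, LinearMap.sub_apply, phi_tmul,
    phi_tmul, one_smul, one_smul] at h1
  rw [σ.shift_der]
  show σ.der b - ℓ (KaehlerDifferential.D A C (algebraMap B C b)) = τ.der b
  rw [h1, sub_sub_cancel]

/-- An extension with a given characteristic homomorphism. -/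
theorem exists_ext_of_extends (Φ : C ⊗[B] Ω[B⁄A] →ₗ[C] L) (χ : EGA41.imperfection A B C →ₗ[C] L)
    (h : ∀ z : EGA41.imperfection A B C, Φ z = χ z) : ∃ X : Ext B C L, X.IsTrivialOver A ∧ X.IsCharHom A χ := by
  let d : Derivation A B L :=
    ((Φ.restrictScalars B).comp (TensorProduct.mk B C Ω[B⁄A] 1)).compDer (KaehlerDifferential.D A B)
  have hd : phi d = Φ := by
    refine TensorProduct.AlgebraTensorModule.curry_injective (LinearMap.ext fun c => LinearMap.ext fun ω => ?_)
    have : d.liftKaehlerDifferential = (Φ.restrictScalars B).comp (TensorProduct.mk B C Ω[B⁄A] 1) :=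
      Derivation.liftKaehlerDifferential_unique _ _ (Derivation.liftKaehlerDifferential_comp _)
    show phi d (c ⊗ₜ ω) = Φ (c ⊗ₜ ω)
    rw [phi, LinearMap.liftBaseChange_tmul, this]
    show c • Φ ((1 : C) ⊗ₜ ω) = _
    rw [← map_smul, smul_tmul', smul_eq_mul, mul_one]
  refine ⟨Ext.ofDerivation (C := C) d, (derSect d).isTrivialOver, fun z => ?_⟩
  have h1 := (derSect (C := C) d).isCharHom z
  rw [LinearMap.comp_apply, show (derSect (C := C) d).der = d from Derivation.ext (derSect_der d), hd] at h1
  rw [← h z]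
  exact h1

end Groth.Agent.EGA41Lib.ExalX
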