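import Groth.Agent.EGA41Lib.ExalBasic
import Mathlib.LinearAlgebra.TensorProduct.RightExactness

/-!
The characteristic homomorphism of the infinitesimal extension.
-/

set_option autoImplicit false
set_option linter.style.haveILetI false

universe u v

open TensorProduct Exal

namespace Groth.Agent.EGA41Lib.ExalX

theorem tensorKaehler_ext {A : Type u} {B C M : Type v} [CommRing A] [CommRing B] [CommRing C] [Algebra A B]
    [Algebra B C] [AddCommGroup M] [Module C M] {f g : C ⊗[B] Ω[B⁄A] →ₗ[C] M}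
    (h : ∀ b, f (1 ⊗ₜ KaehlerDifferential.D A B b) = g (1 ⊗ₜ KaehlerDifferential.D A B b)) : f = g := by
  refine LinearMap.ext fun w => ?_
  induction w with
  | zero => simp only [map_zero]
  | add x y hx hy => simp only [map_add, hx, hy]
  | tmul c ω =>
    have hω : ω ∈ Submodule.span B (Set.range (KaehlerDifferential.D A B)) :=
      KaehlerDifferential.span_range_derivation A B ▸ trivial
    induction hω using Submodule.span_induction generalizing c with
    | zero => simp only [tmul_zero, map_zero]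
    | add x y _ _ hx hy => simp only [tmul_add, map_add, hx, hy]
    | smul b x _ hx => rw [← smul_tmul]; exact hx _
    | mem x hx =>
      obtain ⟨b, rfl⟩ := hx
      rw [show c ⊗ₜ[B] KaehlerDifferential.D A B b = c • ((1 : C) ⊗ₜ[B] KaehlerDifferential.D A B b) by
        rw [smul_tmul', smul_eq_mul, mul_one], map_smul, map_smul, h]

variable {A : Type u} {B : Type v} [CommRing A] [CommRing B] [Algebra A B] {K : Ideal B}
instance isScalarTower_quotient_cotangent : IsScalarTower A (B ⧸ K) K.Cotangent :=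
  IsScalarTower.of_algebraMap_smul fun a z => by
    rw [IsScalarTower.algebraMap_apply A B (B ⧸ K), algebraMap_smul, algebraMap_smul]

theorem phi_infinitesimal (σ : Sect A (Ext.infinitesimal K)) (x : B) (hx : x ∈ K) :
    phi σ.der ((1 : B ⧸ K) ⊗ₜ[B] KaehlerDifferential.D A B x) = K.toCotangent ⟨x, hx⟩ := by
  rw [phi_tmul, one_smul, σ.der_apply]
  refine sndS_eq _ σ.hom σ.hs (b := 0) ?_
  rw [map_zero, zero_add]
  rfl

theorem mem_imperfection_of_mem (x : B) (hx : x ∈ K) :
    (1 : B ⧸ K) ⊗ₜ[B] KaehlerDifferential.D A B x ∈ EGA41.imperfection A B (B ⧸ K) := by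
  show KaehlerDifferential.mapBaseChange A B (B ⧸ K) _ = 0
  rw [KaehlerDifferential.mapBaseChange_tmul, KaehlerDifferential.map_D, Ideal.Quotient.algebraMap_eq,
    Ideal.Quotient.eq_zero_iff_mem.mpr hx, map_zero, smul_zero]

theorem exists_of_mem_imperfection {u : (B ⧸ K) ⊗[B] Ω[B⁄A]} (hu : u ∈ EGA41.imperfection A B (B ⧸ K)) :
    ∃ (x : B) (_ : x ∈ K), u = (1 : B ⧸ K) ⊗ₜ[B] KaehlerDifferential.D A B x := by
  obtain ⟨y, rfl⟩ := (KaehlerDifferential.exact_kerCotangentToTensor_mapBaseChange A B (B ⧸ K)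
    Ideal.Quotient.mk_surjective u).mp hu
  obtain ⟨⟨x, hx⟩, rfl⟩ := Ideal.toCotangent_surjective _ y
  exact ⟨x, Ideal.Quotient.eq_zero_iff_mem.mp hx, rfl⟩

theorem phi_infinitesimal_injOn (σ : Sect A (Ext.infinitesimal K)) {u : (B ⧸ K) ⊗[B] Ω[B⁄A]}
    (hu : u ∈ EGA41.imperfection A B (B ⧸ K)) (h : phi σ.der u = 0) : u = 0 := by
  obtain ⟨x, hx, rfl⟩ := exists_of_mem_imperfection hu
  rw [phi_infinitesimal σ x hx, Ideal.toCotangent_eq_zero] at h
  have hx' : x ∈ RingHom.ker (algebraMap B (B ⧸ K)) := Ideal.Quotient.eq_zero_iff_mem.mpr hx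
  have h2 : Ideal.toCotangent _ (⟨x, hx'⟩ : RingHom.ker (algebraMap B (B ⧸ K))) = 0 := by
    rw [Ideal.toCotangent_eq_zero]
    show x ∈ _
    rw [show RingHom.ker (algebraMap B (B ⧸ K)) = K from Ideal.mk_ker]
    exact h
  have h3 := KaehlerDifferential.kerCotangentToTensor_toCotangent A B (B ⧸ K) ⟨x, hx'⟩
  rw [h2, map_zero] at h3
  exact h3.symm

end Groth.Agent.EGA41Lib.ExalX
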