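import Groth.Agent.EGA41Lib.ExalInf
import Mathlib.RingTheory.Kaehler.JacobiZariski

/-!
The characteristic homomorphism of `B ⧸ K²` over an intermediate ring.
-/

set_option autoImplicit false
set_option linter.style.haveILetI false

universe u v

open TensorProduct Exal

namespace Groth.Agent.EGA41Lib.ExalX

variable {Λ : Type u} {A B : Type v} [CommRing Λ] [CommRing A] [CommRing B] [Algebra Λ A] [Algebra Λ B]
  [Algebra A B] [IsScalarTower Λ A B] (K : Ideal B)

/-- `C ⊗_A Ω_{A/Λ} → C ⊗_B Ω_{B/Λ}` for `C = B ⧸ K`. -/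
noncomputable def gMap : (B ⧸ K) ⊗[A] Ω[A⁄Λ] →ₗ[B ⧸ K] (B ⧸ K) ⊗[B] Ω[B⁄Λ] :=
  ((KaehlerDifferential.mapBaseChange Λ A B).baseChange (B ⧸ K)).comp
    (AlgebraTensorModule.cancelBaseChange A B (B ⧸ K) (B ⧸ K) Ω[A⁄Λ]).symm.toLinearMap

theorem gMap_tmul (a : A) :
    gMap (Λ := Λ) K ((1 : B ⧸ K) ⊗ₜ[A] KaehlerDifferential.D Λ A a) =
      (1 : B ⧸ K) ⊗ₜ[B] KaehlerDifferential.D Λ B (algebraMap A B a) := by
  show ((KaehlerDifferential.mapBaseChange Λ A B).baseChange (B ⧸ K))
    ((AlgebraTensorModule.cancelBaseChange A B (B ⧸ K) (B ⧸ K) Ω[A⁄Λ]).symm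
      ((1 : B ⧸ K) ⊗ₜ[A] KaehlerDifferential.D Λ A a)) = _
  rw [AlgebraTensorModule.cancelBaseChange_symm_tmul, LinearMap.baseChange_tmul,
    KaehlerDifferential.mapBaseChange_tmul, one_smul, KaehlerDifferential.map_D]

theorem mapBaseChange_gMap (z : (B ⧸ K) ⊗[A] Ω[A⁄Λ]) :
    KaehlerDifferential.mapBaseChange Λ B (B ⧸ K) (gMap K z) =
      KaehlerDifferential.mapBaseChange Λ A (B ⧸ K) z := by
  refine LinearMap.congr_fun (f := (KaehlerDifferential.mapBaseChange Λ B (B ⧸ K)).comp (gMap K))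
    (tensorKaehler_ext fun a => ?_) z
  rw [LinearMap.comp_apply, gMap_tmul, KaehlerDifferential.mapBaseChange_tmul, KaehlerDifferential.mapBaseChange_tmul,
    KaehlerDifferential.map_D, KaehlerDifferential.map_D, ← IsScalarTower.algebraMap_apply]

/-- A section over `Λ` of the extension as a `B`-extension. -/
noncomputable def sectB (σ : Sect Λ ((Ext.infinitesimal K).restrictBase A)) : Sect Λ (Ext.infinitesimal K) where
  toAlgHom :=
    { toFun := fun c => (σ.hom c : (Ext.infinitesimal K).E)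
      map_one' := map_one σ.hom
      map_mul' := map_mul σ.hom
      map_zero' := map_zero σ.hom
      map_add' := map_add σ.hom
      commutes' := fun l => by
        refine (σ.hom_algebraMap l).trans ?_
        show algebraMap B (Ext.infinitesimal K).E (algebraMap A B (algebraMap Λ A l)) =
          algebraMap B (Ext.infinitesimal K).E (algebraMap Λ B l)
        rw [← IsScalarTower.algebraMap_apply Λ A B] }
  proj_apply := σ.proj_apply

theorem phi_gMap (σ : Sect Λ ((Ext.infinitesimal K).restrictBase A)) (z : (B ⧸ K) ⊗[A] Ω[A⁄Λ]) :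
    phi σ.der z = phi (sectB K σ).der (gMap K z) := by
  refine LinearMap.congr_fun (g := (phi (sectB K σ).der).comp (gMap K)) (tensorKaehler_ext fun a => ?_) z
  rw [LinearMap.comp_apply, gMap_tmul, phi_tmul, phi_tmul]
  rfl

theorem gMap_mem {z : (B ⧸ K) ⊗[A] Ω[A⁄Λ]} (hz : z ∈ EGA41.imperfection Λ A (B ⧸ K)) :
    gMap K z ∈ EGA41.imperfection Λ B (B ⧸ K) := by
  show KaehlerDifferential.mapBaseChange Λ B (B ⧸ K) (gMap K z) = 0
  rw [mapBaseChange_gMap]
  exact hz

theorem charHom_eq_zero_iff (σ : Sect Λ ((Ext.infinitesimal K).restrictBase A))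
    {χ : EGA41.imperfection Λ A (B ⧸ K) →ₗ[B ⧸ K] K.Cotangent}
    (hχ : ((Ext.infinitesimal K).restrictBase A).IsCharHom Λ χ) (z : EGA41.imperfection Λ A (B ⧸ K)) :
    χ z = 0 ↔ gMap K z.1 = 0 := by
  rw [σ.charHom_eq hχ, LinearMap.comp_apply, Submodule.subtype_apply, phi_gMap]
  exact ⟨fun h => phi_infinitesimal_injOn (sectB K σ) (gMap_mem K z.2) h, fun h => by rw [h, map_zero]⟩

theorem mem_range_charHom_iff (σ : Sect Λ ((Ext.infinitesimal K).restrictBase A))
    {χ : EGA41.imperfection Λ A (B ⧸ K) →ₗ[B ⧸ K] K.Cotangent}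
    (hχ : ((Ext.infinitesimal K).restrictBase A).IsCharHom Λ χ) (x : B) (hx : x ∈ K) :
    K.toCotangent ⟨x, hx⟩ ∈ LinearMap.range χ ↔
      (1 : B ⧸ K) ⊗ₜ[B] KaehlerDifferential.D A B x = (0 : (B ⧸ K) ⊗[B] Ω[B⁄A]) := by
  let τ := sectB K σ
  let u : (B ⧸ K) ⊗[B] Ω[B⁄Λ] := (1 : B ⧸ K) ⊗ₜ[B] KaehlerDifferential.D Λ B x
  have hu : u ∈ EGA41.imperfection Λ B (B ⧸ K) := mem_imperfection_of_mem x hx
  have hex : Function.Exact
      ((KaehlerDifferential.mapBaseChange Λ A B).baseChange (B ⧸ K))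
      ((KaehlerDifferential.map Λ A B B).baseChange (B ⧸ K)) :=
    lTensor_exact (B ⧸ K) (KaehlerDifferential.exact_mapBaseChange_map Λ A B)
      (KaehlerDifferential.map_surjective Λ A B)
  have hhu : (KaehlerDifferential.map Λ A B B).baseChange (B ⧸ K) u =
      (1 : B ⧸ K) ⊗ₜ[B] KaehlerDifferential.D A B x := by
    rw [LinearMap.baseChange_tmul, KaehlerDifferential.map_D, Algebra.algebraMap_self_apply]
  rw [σ.charHom_eq hχ, ← phi_infinitesimal τ x hx, ← hhu]
  constructor
  · rintro ⟨z, hz⟩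
    rw [LinearMap.comp_apply, Submodule.subtype_apply, phi_gMap] at hz
    have h0 : gMap K z.1 = u := sub_eq_zero.mp
      (phi_infinitesimal_injOn τ (Submodule.sub_mem _ (gMap_mem K z.2) hu) (by rw [map_sub, hz, sub_self]))
    rw [← h0]
    exact hex.apply_apply_eq_zero _
  · intro h
    obtain ⟨w, hw⟩ := (hex u).mp h
    let z := AlgebraTensorModule.cancelBaseChange A B (B ⧸ K) (B ⧸ K) Ω[A⁄Λ] w
    have hz : gMap K z = u := by
      show ((KaehlerDifferential.mapBaseChange Λ A B).baseChange (B ⧸ K))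
        ((AlgebraTensorModule.cancelBaseChange A B (B ⧸ K) (B ⧸ K) Ω[A⁄Λ]).symm z) = u
      rw [LinearEquiv.symm_apply_apply, hw]
    refine ⟨⟨z, ?_⟩, ?_⟩
    · show KaehlerDifferential.mapBaseChange Λ A (B ⧸ K) z = 0
      rw [← mapBaseChange_gMap, hz]
      exact hu
    · rw [LinearMap.comp_apply, Submodule.subtype_apply, phi_gMap, hz]

theorem gMap_injective [Algebra.FormallySmooth A B] : Function.Injective (gMap (Λ := Λ) (A := A) K) := by
  let f := KaehlerDifferential.mapBaseChange Λ A B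
  have hf : Function.Injective f := (injective_iff_map_eq_zero _).mpr fun y hy => by
    obtain ⟨h, rfl⟩ := (Algebra.H1Cotangent.exact_δ_mapBaseChange Λ A B y).mp hy
    rw [Subsingleton.elim h 0, map_zero]
  obtain ⟨s, hs⟩ := Module.projective_lifting_property (KaehlerDifferential.map Λ A B B) LinearMap.id
    (KaehlerDifferential.map_surjective Λ A B)
  have hmem : ∀ ω : Ω[B⁄Λ], ω - s (KaehlerDifferential.map Λ A B B ω) ∈ LinearMap.range f := fun ω =>
    (KaehlerDifferential.exact_mapBaseChange_map Λ A B _).mp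
      (by rw [map_sub, show KaehlerDifferential.map Λ A B B (s _) = _ from LinearMap.congr_fun hs _,
        LinearMap.id_apply, sub_self])
  let r : Ω[B⁄Λ] →ₗ[B] B ⊗[A] Ω[A⁄Λ] := (LinearEquiv.ofInjective f hf).symm.toLinearMap.comp
    ((LinearMap.id - s.comp (KaehlerDifferential.map Λ A B B)).codRestrict _ hmem)
  have hr : r.comp f = LinearMap.id := LinearMap.ext fun y => by
    show (LinearEquiv.ofInjective f hf).symm _ = y
    rw [LinearEquiv.symm_apply_eq]
    apply Subtype.ext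
    show f y - s (KaehlerDifferential.map Λ A B B (f y)) = f y
    rw [(KaehlerDifferential.exact_mapBaseChange_map Λ A B).apply_apply_eq_zero, map_zero, sub_zero]
  have hinj : Function.Injective (f.baseChange (B ⧸ K)) := by
    refine Function.LeftInverse.injective (g := r.baseChange (B ⧸ K)) fun y => ?_
    rw [← LinearMap.comp_apply, ← LinearMap.baseChange_comp, hr, LinearMap.baseChange_id, LinearMap.id_apply]
  exact hinj.comp (LinearEquiv.injective _)

end Groth.Agent.EGA41Lib.ExalX
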