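import Groth.Agent.EGA41Lib.ExalBasic

/-!
Extensions from square-zero ideals, and formal smoothness.
-/

set_option autoImplicit false
set_option linter.style.haveILetI false

universe u v

open Exal

namespace Groth.Agent.EGA41Lib.ExalX

variable {A : Type u} {C : Type v} [CommRing A] [CommRing C] [Algebra A C]

/-- The extension of `C ⧸ I` attached to a square-zero ideal. -/
noncomputable def ofSqZero (I : Ideal C) (hI : I ^ 2 = ⊥) : Ext A (C ⧸ I) I.Cotangent where
  E := C
  proj := Ideal.Quotient.mkₐ A I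
  incl := (Submodule.liftQ (I • ⊤ : Submodule C I) I.subtype (by
      rw [Submodule.smul_le]
      intro c hc z _
      rw [LinearMap.mem_ker]
      show c * (z : C) = 0
      have : c * (z : C) ∈ I ^ 2 := pow_two I ▸ Ideal.mul_mem_mul hc z.2
      rwa [hI, Ideal.mem_bot] at this)).toAddMonoidHom
  isExtension :=
    { proj_surjective := Ideal.Quotient.mk_surjective
      incl_injective := fun x y h => by
        obtain ⟨x, rfl⟩ := I.toCotangent_surjective x
        obtain ⟨y, rfl⟩ := I.toCotangent_surjective y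
        exact congrArg _ (Subtype.ext (h : (x : C) = y))
      exact := fun x => by
        rw [Ideal.Quotient.mkₐ_eq_mk, Ideal.Quotient.eq_zero_iff_mem]
        exact ⟨fun hx => ⟨I.toCotangent ⟨x, hx⟩, rfl⟩, fun ⟨z, hz⟩ => by
          obtain ⟨z, rfl⟩ := I.toCotangent_surjective z
          exact hz ▸ z.2⟩
      mul_incl := fun x z => by
        obtain ⟨z, rfl⟩ := I.toCotangent_surjective z
        show x * (z : C) = _
        rw [Ideal.Quotient.mkₐ_eq_mk, ← Ideal.Quotient.algebraMap_eq, algebraMap_smul, ← map_smul]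
        rfl }

theorem ker_sq_eq_bot {A : Type u} {B L : Type v} [CommRing A] [CommRing B] [Algebra A B] [AddCommGroup L]
    [Module B L] (X : Ext A B L) : RingHom.ker X.proj.toRingHom ^ 2 = ⊥ := by
  rw [← le_bot_iff, pow_two, Ideal.mul_le]
  intro x hx y hy
  obtain ⟨z, rfl⟩ := (X.isExtension.exact x).mp hx
  obtain ⟨z', rfl⟩ := (X.isExtension.exact y).mp hy
  exact Ideal.mem_bot.mpr (incl_mul_incl X z z')

variable {B : Type v} [CommRing B] [Algebra A B]

/-- A lifting problem is solved if the corresponding extension is trivial. -/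
theorem exists_lift_of_isTrivial (I : Ideal C) (hI : I ^ 2 = ⊥) (f : B →ₐ[A] C ⧸ I)
    (h : ∀ (L : Type v) [AddCommGroup L] [Module B L] (X : Ext A B L),
      (∀ (g : B → C), (∀ b, Ideal.Quotient.mk I (g b) = f b) →
        ∃ i : B → X.E, (∀ b, X.proj (i b) = b) ∧ ∃ q : X.E → C, ∀ b, q (i b) = g b) → X.IsTrivial) :
    ∃ v : B →ₐ[A] C, ∀ b, Ideal.Quotient.mk I (v b) = f b := by
  letI : Algebra B (C ⧸ I) := f.toRingHom.toAlgebra
  haveI : IsScalarTower A B (C ⧸ I) := IsScalarTower.of_algebraMap_eq fun a => (f.commutes a).symm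
  letI : Module B I.Cotangent := Module.compHom I.Cotangent (algebraMap B (C ⧸ I))
  haveI : IsScalarTower B (C ⧸ I) I.Cotangent := IsScalarTower.of_algebraMap_smul fun _ _ => rfl
  obtain ⟨s, hs⟩ := h I.Cotangent ((ofSqZero (A := A) I hI).pullback B) fun g hg =>
    ⟨fun b => ⟨(g b, b), hg b⟩, fun _ => rfl, fun x => x.1.1, fun _ => rfl⟩
  refine ⟨(AlgHom.fst A C B).comp (((ofSqZero (A := A) I hI).fiberProd B).val.comp s), fun b => ?_⟩
  have h1 : Ideal.Quotient.mk I ((s b).1.1 : C) = f ((s b).1.2) := (s b).2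
  have h2 : (s b).1.2 = b := hs b
  rwa [h2] at h1

/-- A lifting problem with a lift over `Λ` gives an extension trivial over `Λ`. -/
theorem exists_lift_of_isTrivialOver {Λ : Type u} [CommRing Λ] [Algebra Λ A] [Algebra Λ B] [IsScalarTower Λ A B]
    [Algebra Λ C] [IsScalarTower Λ A C] (I : Ideal C) (hI : I ^ 2 = ⊥) (f : B →ₐ[A] C ⧸ I)
    (u : B →ₐ[Λ] C) (hu : ∀ b, Ideal.Quotient.mk I (u b) = f b)
    (h : ∀ (L : Type v) [AddCommGroup L] [Module B L] (X : Ext A B L), X.IsTrivialOver Λ → X.IsTrivial) :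
    ∃ v : B →ₐ[A] C, ∀ b, Ideal.Quotient.mk I (v b) = f b := by
  letI : Algebra B (C ⧸ I) := f.toRingHom.toAlgebra
  haveI : IsScalarTower A B (C ⧸ I) := IsScalarTower.of_algebraMap_eq fun a => (f.commutes a).symm
  letI : Module B I.Cotangent := Module.compHom I.Cotangent (algebraMap B (C ⧸ I))
  haveI : IsScalarTower B (C ⧸ I) I.Cotangent := IsScalarTower.of_algebraMap_smul fun _ _ => rfl
  have htriv : ((ofSqZero (A := A) I hI).pullback B).IsTrivialOver Λ :=
    ⟨{ toFun := fun b => (⟨(u b, b), hu b⟩ : (ofSqZero (A := A) I hI).fiberProd B)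
       map_one' := Subtype.ext (Prod.ext (map_one u) rfl)
       map_mul' := fun x y => Subtype.ext (Prod.ext (map_mul u x y) rfl)
       map_zero' := Subtype.ext (Prod.ext (map_zero u) rfl)
       map_add' := fun x y => Subtype.ext (Prod.ext (map_add u x y) rfl)
       commutes' := fun l => Subtype.ext (Prod.ext ((u.commutes l).trans (IsScalarTower.algebraMap_apply Λ A C l))
        (IsScalarTower.algebraMap_apply Λ A B l)) }, fun _ => rfl⟩
  obtain ⟨s, hs⟩ := h I.Cotangent _ htriv
  refine ⟨(AlgHom.fst A C B).comp (((ofSqZero (A := A) I hI).fiberProd B).val.comp s), fun b => ?_⟩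
  have h1 : Ideal.Quotient.mk I ((s b).1.1 : C) = f ((s b).1.2) := (s b).2
  have h2 : (s b).1.2 = b := hs b
  rwa [h2] at h1

/-- Formal smoothness from triviality of all extensions. -/
theorem formallySmooth_of_forall_isTrivial {A B : Type u} [CommRing A] [CommRing B] [Algebra A B]
    (h : ∀ (L : Type u) [AddCommGroup L] [Module B L] (X : Ext A B L), X.IsTrivial) : Algebra.FormallySmooth A B :=
  Algebra.FormallySmooth.of_comp_surjective fun C _ _ I hI f => by
    obtain ⟨v, hv⟩ := exists_lift_of_isTrivial I hI f fun L _ _ X _ => h L X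
    exact ⟨v, AlgHom.ext hv⟩

end Groth.Agent.EGA41Lib.ExalX
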