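import Mathlib.RingTheory.Spectrum.Prime.Topology
import Mathlib.Topology.Constructible

/-!
The image of the spectrum of a product of fields.
-/

set_option autoImplicit false

universe u v w

open Topology PrimeSpectrum

namespace Groth.Agent.EGA41Lib

/-- A constructible set containing all the points given by the factors contains the whole image of
the spectrum of a product of fields. -/
theorem range_comap_pi_subset {A : Type u} [CommRing A] {ι : Type v} {k : ι → Type w} [∀ i, Field (k i)]
    (ψ : A →+* ∀ i, k i) {T : Set (PrimeSpectrum A)} (hT : IsConstructible T)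
    (hpt : ∀ i, PrimeSpectrum.comap ψ (PrimeSpectrum.comap (Pi.evalRingHom k i) ⊥) ∈ T) :
    Set.range (PrimeSpectrum.comap ψ) ⊆ T := by
  classical
  have hbasic : ∀ r : ∀ i, k i, IsClopen (basicOpen r : Set (PrimeSpectrum (∀ i, k i))) := by
    intro r
    let e : ∀ i, k i := fun i => if r i = 0 then 0 else 1
    have he : basicOpen r = basicOpen e := by
      ext q
      have h1 : r = r * e := by funext i; by_cases h : r i = 0 <;> simp [e, h]
      have h2 : e = (fun i => (r i)⁻¹) * r := by funext i; by_cases h : r i = 0 <;> simp [e, h]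
      exact not_congr ⟨fun h => h2 ▸ q.asIdeal.mul_mem_left _ h, fun h => h1 ▸ q.asIdeal.mul_mem_left _ h⟩
    rw [he]
    exact isClopen_basicOpen_of_mul_add e (1 - e) (by funext i; by_cases h : r i = 0 <;> simp [e, h]) (by ring)
  have hclopen : ∀ s : Set (PrimeSpectrum (∀ i, k i)), IsConstructible s → IsClopen s := by
    intro s hs
    refine IsConstructible.empty_union_induction (p := fun s _ => IsClopen s) ?_ (fun s _ t _ h h' => h.union h')
      (fun s _ h => h.compl) hs
    intro U hU hU'
    obtain ⟨t, ht, hUt⟩ := (isCompact_open_iff_eq_finite_iUnion_of_isTopologicalBasis _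
      (isTopologicalBasis_basic_opens (R := ∀ i, k i)) (fun r => isCompact_basicOpen r) U).mp ⟨hU'.isCompact, hU⟩
    rw [hUt]
    exact ht.isClopen_biUnion fun r _ => hbasic r
  have hcl := hclopen (PrimeSpectrum.comap ψ ⁻¹' T) (hT.preimage (PrimeSpectrum.continuous_comap ψ)
    (fun s hs hs' => (QuasiSeparatedSpace.isRetrocompact_iff_isCompact (hs.preimage (continuous_comap ψ))).mpr
      (by
        obtain ⟨t, rfl⟩ := isCompact_isOpen_iff.mp ⟨hs'.isCompact, hs⟩
        rw [Set.preimage_compl, preimage_comap_zeroLocus]
        exact (isCompact_isOpen_iff.mpr ⟨t.image ψ, by simp⟩).1)))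
  obtain ⟨e, he, he'⟩ := exists_idempotent_basicOpen_eq_of_isClopen hcl.compl
  have he0 : e = 0 := by
    funext i
    by_contra hne
    have hmem : PrimeSpectrum.comap (Pi.evalRingHom k i) ⊥ ∈ (basicOpen e : Set _) := by
      show ¬ e i ∈ (⊥ : Ideal (k i))
      rw [Ideal.mem_bot]; exact hne
    rw [← he'] at hmem
    exact hmem (hpt i)
  rintro _ ⟨q, rfl⟩
  by_contra hq
  have : q ∈ (basicOpen e : Set _) := he' ▸ hq
  exact this (he0 ▸ q.asIdeal.zero_mem)

end Groth.Agent.EGA41Lib
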