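import Groth.Agent.EGA41Lib.ConsQS
import Groth.Agent.EGA41Lib.PiField

/-! Images of quasi-compact morphisms are the intersections of constructible sets. -/

set_option autoImplicit false

universe u

open Topology TopologicalSpace AlgebraicGeometry Set CategoryTheory
open Groth.Agent.SpecLib

namespace Groth.Agent.EGA41Lib

theorem range_comap_cc {A B : Type u} [CommRing A] [CommRing B] (f : A →+* B) :
    CC (Set.range (PrimeSpectrum.comap f)) := by
  have hs : IsSpectralMap (PrimeSpectrum.comap f) :=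
    Scheme.Hom.isSpectralMap (f := Spec.map (CommRingCat.ofHom f))
  have := CC.image hs (E := (Set.univ : Set (PrimeSpectrum B))) (cc_of_isClosed isClosed_univ)
  rwa [Set.image_univ] at this

theorem exists_range_comap_eq {A : Type u} [CommRing A] {E : Set (PrimeSpectrum A)} (hE : CC E) :
    ∃ (B : Type u) (_ : CommRing B) (f : A →+* B), Set.range (PrimeSpectrum.comap f) = E := by
  obtain ⟨S, hS, rfl⟩ := cc_iff_sInter.mp hE
  let k : ⋂₀ S → Type u := fun p => p.1.asIdeal.ResidueField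
  let ψ : A →+* ∀ p, k p := Pi.ringHom fun p => algebraMap A p.1.asIdeal.ResidueField
  refine ⟨∀ p, k p, inferInstance, ψ, ?_⟩
  have hpt : ∀ p : ⋂₀ S, PrimeSpectrum.comap ψ (PrimeSpectrum.comap (Pi.evalRingHom k p) ⊥) = p.1 := fun p => by
    refine PrimeSpectrum.ext (Ideal.ext fun a => ?_)
    show algebraMap A p.1.asIdeal.ResidueField a ∈ (⊥ : Ideal p.1.asIdeal.ResidueField) ↔ _
    rw [Ideal.mem_bot, Ideal.algebraMap_residueField_eq_zero]
  refine Set.Subset.antisymm (fun x hx => Set.mem_sInter.mpr fun T hT => ?_) fun p hp => ⟨_, hpt ⟨p, hp⟩⟩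
  exact range_comap_pi_subset ψ (hS T hT) (fun p => by
    rw [hpt]
    exact Set.mem_sInter.mp p.2 T hT) hx

theorem exists_quasiCompact_range_eq {X : Scheme.{u}} [CompactSpace X] [QuasiSeparatedSpace X] {E : Set X}
    (hE : CC E) : ∃ (X' : Scheme.{u}) (f : X' ⟶ X), QuasiCompact f ∧ Set.range f.base = E := by
  let 𝒰 := X.affineCover.finiteSubcover
  let A : 𝒰.I₀ → CommRingCat.{u} := fun a => Γ(𝒰.X a, ⊤)
  let e : ∀ a, Spec (A a) ⟶ X := fun a => (𝒰.X a).isoSpec.inv ≫ 𝒰.f a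
  haveI he : ∀ a, QuasiCompact (e a) := fun a =>
    (quasiCompact_iff_compactSpace (e a)).mpr inferInstance
  have hcc : ∀ a, CC ((e a).base ⁻¹' E : Set (PrimeSpectrum (A a))) := fun a =>
    CC.preimage (e a).isSpectralMap hE
  choose B hB ψ hψ using fun a => exists_range_comap_eq (hcc a)
  let F : 𝒰.I₀ → Scheme.{u} := fun a => @Scheme.Spec.obj (Opposite.op (@CommRingCat.of (B a) (hB a)))
  let γ : ∀ a, F a ⟶ X := fun a => Spec.map (@CommRingCat.ofHom _ _ _ (hB a) (ψ a)) ≫ e a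
  haveI : ∀ a, IsAffine (F a) := fun a => isAffine_Spec _
  refine ⟨∐ F, Limits.Sigma.desc γ, (quasiCompact_iff_compactSpace _).mpr inferInstance, ?_⟩
  refine Set.Subset.antisymm ?_ fun z hz => ?_
  · rintro _ ⟨p, rfl⟩
    obtain ⟨⟨a, p⟩, rfl⟩ := (sigmaMk F).surjective p
    rw [sigmaMk_mk, ← Scheme.Hom.comp_apply, Limits.Sigma.ι_desc]
    exact (hψ a).le ⟨p, rfl⟩
  · obtain ⟨a, w, rfl⟩ := 𝒰.exists_eq z
    have hw : (e a).base ((𝒰.X a).isoSpec.hom.base w) = (𝒰.f a).base w := by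
      simp [e, ← Scheme.Hom.comp_apply]
    obtain ⟨q, hq⟩ := (hψ a).ge (show (𝒰.X a).isoSpec.hom.base w ∈ (e a).base ⁻¹' E by
      show _ ∈ E; rw [hw]; exact hz)
    refine ⟨(Limits.Sigma.ι F a).base q, ?_⟩
    have hd : Limits.Sigma.ι F a ≫ Limits.Sigma.desc γ = γ a := Limits.Sigma.ι_desc _ _
    exact (congr($(hd).base q)).trans ((congrArg (e a).base hq).trans hw)

end Groth.Agent.EGA41Lib
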