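import Mathlib.RingTheory.Nakayama
import Mathlib.RingTheory.LocalRing.ResidueField.Ideal
import Mathlib.Algebra.Module.LocalizedModule.Basic
import Mathlib.LinearAlgebra.Matrix.Adjugate
import Mathlib.LinearAlgebra.Matrix.ToLin
import Mathlib.LinearAlgebra.Dual.Lemmas
import Mathlib.Algebra.Module.Projective
import Mathlib.LinearAlgebra.TensorProduct.Basis
import Mathlib.RingTheory.Finiteness.Basic
import Mathlib.RingTheory.TensorProduct.Finite
import Mathlib.RingTheory.Support
import Mathlib.RingTheory.LocalRing.Module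

/-!
Left invertibility of maps into projective modules, pointwise on the spectrum.
-/

namespace Groth.Agent.EGA41Lib

open TensorProduct

variable {R : Type*} [CommRing R]

/-- Elements of a projective module independent in the fibre at `p` are separated by linear forms
with determinant prime to `p`. -/
theorem exists_det_notMem {N : Type*} [AddCommGroup N] [Module R N] [Module.Projective R N]
    (p : Ideal R) [p.IsPrime] {m : ℕ} (n : Fin m → N)
    (h : LinearIndependent p.ResidueField (fun i => (1 : p.ResidueField) ⊗ₜ[R] n i)) :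
    ∃ φ : Fin m → (N →ₗ[R] R), Matrix.det (Matrix.of fun i j => φ j (n i)) ∉ p := by
  classical
  obtain ⟨s, hs⟩ := (Module.projective_def' (R := R) (P := N)).mp inferInstance
  let κ := p.ResidueField
  let ρ : N →ₗ[R] (N →₀ κ) := (Finsupp.mapRange.linearMap (Algebra.linearMap R κ)) ∘ₗ s
  let c : (N →₀ R) →ₗ[R] N := Finsupp.linearCombination R id
  let back : (N →₀ κ) →ₗ[κ] κ ⊗[R] N := Finsupp.linearCombination κ (fun x => (1 : κ) ⊗ₜ[R] x)
  have hback : ∀ x, back (ρ x) = (1 : κ) ⊗ₜ[R] x := by
    intro x
    conv_rhs => rw [← show c (s x) = x from LinearMap.congr_fun hs x]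
    show back (Finsupp.mapRange _ (map_zero (Algebra.linearMap R κ)) (s x)) = _
    induction s x using Finsupp.induction_linear with
    | zero => simp
    | add a b ha hb =>
      rw [Finsupp.mapRange_add (fun a b => map_add (Algebra.linearMap R κ) a b), map_add, ha, hb, map_add,
        TensorProduct.tmul_add]
    | single a b =>
      simp [back, c, Finsupp.linearCombination_single, TensorProduct.smul_tmul', Algebra.algebraMap_eq_smul_one]
  have hind : LinearIndependent κ (fun i => ρ (n i)) := by
    refine LinearIndependent.of_comp back ?_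
    simpa [Function.comp_def, hback] using h
  let e := Finsupp.linearCombination κ (fun i => ρ (n i))
  obtain ⟨ψ, hψ⟩ := LinearMap.exists_leftInverse_of_injective e
    (LinearMap.ker_eq_bot.mpr hind)
  let S : Finset N := Finset.univ.biUnion fun i => (ρ (n i)).support
  let coef : Fin m → N → κ := fun j a => ψ (Finsupp.single a 1) j
  obtain ⟨⟨d, hd⟩, hcd⟩ := IsLocalization.exist_integer_multiples (nonZeroDivisors (R ⧸ p))
    (Finset.univ ×ˢ S) (fun ja : Fin m × N => coef ja.1 ja.2)
  obtain ⟨d, rfl⟩ := Ideal.Quotient.mk_surjective d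
  have hlift : ∀ ja : Fin m × N, ∃ r : R, ja ∈ Finset.univ ×ˢ S →
      algebraMap R κ r = algebraMap R κ d * coef ja.1 ja.2 := by
    intro ja
    by_cases hja : ja ∈ Finset.univ ×ˢ S
    · obtain ⟨q, hq⟩ := hcd ja hja
      obtain ⟨r, rfl⟩ := Ideal.Quotient.mk_surjective q
      exact ⟨r, fun _ => by simpa [Algebra.smul_def, Submonoid.smul_def, ← IsScalarTower.algebraMap_apply,
        ← Ideal.Quotient.algebraMap_eq] using hq⟩
    · exact ⟨0, fun h => absurd h hja⟩
  choose r hr using hlift
  let φ : Fin m → (N →ₗ[R] R) := fun j =>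
    (∑ a ∈ S, r (j, a) • Finsupp.lapply a) ∘ₗ s
  refine ⟨φ, ?_⟩
  have hM : (Matrix.of fun i j => φ j (n i)).map (algebraMap R κ) =
      algebraMap R κ d • (1 : Matrix (Fin m) (Fin m) κ) := by
    ext i j
    simp only [Matrix.map_apply, Matrix.of_apply, φ, LinearMap.comp_apply, LinearMap.coe_sum,
      Finset.sum_apply, LinearMap.smul_apply, Finsupp.lapply_apply, map_sum, smul_eq_mul, map_mul]
    calc ∑ a ∈ S, algebraMap R κ (r (j, a)) * algebraMap R κ (s (n i) a)
        = ∑ a ∈ S, algebraMap R κ d * (coef j a * ρ (n i) a) := by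
          refine Finset.sum_congr rfl fun a ha => ?_
          rw [hr (j, a) (Finset.mem_product.mpr ⟨Finset.mem_univ _, ha⟩)]
          simp [ρ, mul_assoc]
      _ = algebraMap R κ d * ψ (ρ (n i)) j := by
          rw [← Finset.mul_sum]
          congr 1
          conv_rhs => rw [← Finsupp.sum_single (ρ (n i)), Finsupp.sum_of_support_subset _
            (show (ρ (n i)).support ⊆ S from
              Finset.subset_biUnion_of_mem (fun i => (ρ (n i)).support) (Finset.mem_univ i))
            _ (fun a _ => by simp), map_sum, Finsupp.finset_sum_apply]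
          refine Finset.sum_congr rfl fun a _ => ?_
          conv_rhs => rw [← mul_one (ρ (n i) a), ← smul_eq_mul, ← Finsupp.smul_single, map_smul,
            Finsupp.smul_apply, smul_eq_mul]
          rw [mul_comm]
      _ = _ := by
          have h1 : ψ (ρ (n i)) = Finsupp.single i 1 := by
            have := LinearMap.congr_fun hψ (Finsupp.single i 1)
            simpa [e] using this
          simp [h1, Matrix.one_apply, Finsupp.single_apply]
  have hd0 : algebraMap R κ d ≠ 0 := by
    rw [ne_eq, Ideal.algebraMap_residueField_eq_zero]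
    intro hdp
    exact (mem_nonZeroDivisors_iff_ne_zero.mp hd) (Ideal.Quotient.eq_zero_iff_mem.mpr hdp)
  rw [← Ideal.algebraMap_residueField_eq_zero, RingHom.map_det, RingHom.mapMatrix_apply, hM,
    Matrix.det_smul, Matrix.det_one, mul_one]
  exact pow_ne_zero _ hd0

variable {M N : Type*} [AddCommGroup M] [Module R M] [AddCommGroup N] [Module R N]

set_option maxHeartbeats 800000 in
/-- A fibrewise injective map from a finite module to a projective module is left invertible
up to a factor prime to `p`. -/
theorem exists_comp_eq_smul_id [Module.Finite R M] [Module.Projective R N] (u : M →ₗ[R] N)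
    (p : Ideal R) [p.IsPrime] (h : Function.Injective (u.lTensor p.ResidueField)) :
    ∃ f : R, f ∉ p ∧ ∃ w : N →ₗ[R] M, w ∘ₗ u = f • LinearMap.id := by
  classical
  obtain ⟨t, ht⟩ := Module.Finite.fg_top (R := R) (M := M)
  let κ := p.ResidueField
  let g : M → κ ⊗[R] M := fun x => (1 : κ) ⊗ₜ[R] x
  have hspan : Submodule.span κ (Set.range g) = ⊤ := by
    rw [eq_top_iff]
    rintro z -
    induction z with
    | zero => exact zero_mem _
    | add a b ha hb => exact add_mem ha hb
    | tmul c x =>
      rw [show c ⊗ₜ[R] x = c • g x by simp [g, TensorProduct.smul_tmul']]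
      exact Submodule.smul_mem _ _ (Submodule.subset_span ⟨x, rfl⟩)
  obtain ⟨B0, hB0, hB0'⟩ : ∃ B0 : Set (κ ⊗[R] M), B0 ⊆ Set.range g ∧
      (LinearIndependent κ ((↑) : B0 → κ ⊗[R] M) ∧ Submodule.span κ B0 = ⊤) := by
    obtain ⟨B0, hsub, hsp, hli⟩ := exists_linearIndependent κ (Set.range g)
    exact ⟨B0, hsub, hli, hsp.trans hspan⟩
  have hfin : B0.Finite := hB0'.1.set_finite_of_isNoetherian
  let : Fintype B0 := hfin.fintype
  let eB := Fintype.equivFin B0
  choose pre hpre using fun z : B0 => hB0 z.2
  let y : Fin (Fintype.card B0) → M := fun i => pre (eB.symm i)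
  have hy : ∀ i, g (y i) = eB.symm i := fun i => hpre _
  have hy2 : Submodule.span κ (Set.range fun i => g (y i)) = ⊤ := by
    rw [← hB0'.2]
    congr 1
    ext z
    simp only [Set.mem_range, hy]
    exact ⟨fun ⟨i, hi⟩ => hi ▸ (eB.symm i).2, fun hz => ⟨eB ⟨z, hz⟩, by simp⟩⟩
  have hli : LinearIndependent κ (fun i => (1 : κ) ⊗ₜ[R] u (y i)) := by
    have h1 : LinearIndependent κ (fun i => g (y i)) := by
      simp only [hy]
      exact hB0'.1.comp _ eB.symm.injective
    have h2 := h1.map' (u.baseChange κ) (LinearMap.ker_eq_bot.mpr h)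
    exact h2
  obtain ⟨φ, hφ⟩ := exists_det_notMem p (fun i => u (y i)) hli
  set G := Matrix.of fun i j => φ j (u (y i)) with hG
  -- the span of the `y` contains `h • M` for some `h ∉ p`
  let Y : Submodule R M := Submodule.span R (Set.range y)
  have hq : Subsingleton (κ ⊗[R] (M ⧸ Y)) := by
    refine subsingleton_of_forall_eq 0 fun z => ?_
    obtain ⟨z', rfl⟩ := LinearMap.lTensor_surjective κ Y.mkQ_surjective z
    have : z' ∈ Submodule.span κ (Set.range fun i => g (y i)) := hy2 ▸ trivial
    induction this using Submodule.span_induction with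
    | mem x hx =>
      obtain ⟨i, rfl⟩ := hx
      rw [LinearMap.lTensor_tmul, show Y.mkQ (y i) = 0 from
        (Submodule.Quotient.mk_eq_zero Y).mpr (Submodule.subset_span ⟨i, rfl⟩), TensorProduct.tmul_zero]
    | zero => simp
    | add a b _ _ ha hb => rw [map_add, ha, hb, add_zero]
    | smul c x _ hx =>
      have : LinearMap.lTensor κ Y.mkQ (c • x) = c • LinearMap.lTensor κ Y.mkQ x :=
        (Y.mkQ.baseChange κ).map_smul c x
      rw [this, hx, smul_zero]
  obtain ⟨hh, hhp, hhY⟩ : ∃ hh : R, hh ∉ p ∧ ∀ x : M, hh • x ∈ Y := by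
    have hsupp : (⟨p, ‹_›⟩ : PrimeSpectrum R) ∉ Module.support R (M ⧸ Y) := by
      intro hmem
      have h1 := (Module.mem_support_iff_nontrivial_residueField_tensorProduct (R := R) (M := M ⧸ Y) ⟨p, ‹_›⟩).mp hmem
      exact (not_nontrivial_iff_subsingleton (α := κ ⊗[R] (M ⧸ Y))).mpr hq h1
    rw [Module.support_eq_zeroLocus, PrimeSpectrum.mem_zeroLocus, Set.not_subset] at hsupp
    obtain ⟨hh, hann, hhp⟩ := hsupp
    refine ⟨hh, hhp, fun x => ?_⟩
    rw [← Submodule.Quotient.mk_eq_zero, Submodule.Quotient.mk_smul]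
    exact Module.mem_annihilator.mp hann _
  let π : (Fin (Fintype.card B0) → R) →ₗ[R] M := Fintype.linearCombination R y
  let w0 : N →ₗ[R] M := π ∘ₗ G.adjugate.vecMulLinear ∘ₗ LinearMap.pi φ
  have hw0 : ∀ i, w0 (u (y i)) = G.det • y i := by
    intro i
    have hrow : LinearMap.pi φ (u (y i)) = Matrix.vecMul (Pi.single i 1) G := by
      ext j
      simp [G, Matrix.single_one_vecMul]
    simp only [w0, LinearMap.comp_apply, hrow, Matrix.vecMulLinear_apply, Matrix.vecMul_vecMul,
      Matrix.mul_adjugate, Matrix.vecMul_smul, Matrix.vecMul_one, map_smul]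
    simp [π, Fintype.linearCombination_apply, Pi.single_apply]
  have hwY : ∀ z ∈ Y, w0 (u z) = G.det • z := by
    intro z hz
    induction hz using Submodule.span_induction with
    | mem x hx => obtain ⟨i, rfl⟩ := hx; exact hw0 i
    | zero => simp
    | add a b _ _ ha hb => simp [ha, hb]
    | smul c x _ hx => simp [hx, smul_comm c G.det]
  refine ⟨G.det * hh, fun hmem => (Ideal.IsPrime.mem_or_mem ‹_› hmem).elim hφ hhp, hh • w0, ?_⟩
  ext x
  simp only [LinearMap.comp_apply, LinearMap.smul_apply, LinearMap.id_apply]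
  rw [← map_smul, ← map_smul, hwY _ (hhY x), mul_smul]

/-- From a left inverse up to `f`, a left inverse after inverting `f`. -/
theorem exists_localized_leftInverse (u : M →ₗ[R] N) (S : Submonoid R) {f : R} (hf : f ∈ S)
    {w : N →ₗ[R] M} (hw : w ∘ₗ u = f • LinearMap.id) :
    ∃ w' : LocalizedModule S N →ₗ[R] LocalizedModule S M,
      w' ∘ₗ LocalizedModule.map S u = LinearMap.id := by
  have hbij := (Module.End.isUnit_iff _).mp
    (IsLocalizedModule.map_units (S := S) (LocalizedModule.mkLinearMap S M) ⟨f, hf⟩)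
  let e := LinearEquiv.ofBijective _ hbij
  refine ⟨e.symm.toLinearMap ∘ₗ ((LocalizedModule.map S w).restrictScalars R), LinearMap.ext fun z => ?_⟩
  induction z using LocalizedModule.induction_on with
  | _ m s =>
    rw [LinearMap.comp_apply, LinearMap.comp_apply, LinearEquiv.coe_coe, LinearEquiv.symm_apply_eq]
    show LocalizedModule.map S w (LocalizedModule.map S u (LocalizedModule.mk m s)) = _
    rw [LocalizedModule.map_mk, LocalizedModule.map_mk]
    have := LinearMap.congr_fun hw m
    simp only [LinearMap.comp_apply, LinearMap.smul_apply, LinearMap.id_apply] at this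
    rw [this]
    show _ = f • LocalizedModule.mk m s
    rw [LocalizedModule.smul'_mk]

/-- A left inverse after localizing at `S` gives injectivity on fibres at primes avoiding `S`. -/
theorem lTensor_injective_of_localized_leftInverse (u : M →ₗ[R] N) (S : Submonoid R)
    (p : Ideal R) [p.IsPrime] (hS : S ≤ p.primeCompl)
    {w : LocalizedModule S N →ₗ[R] LocalizedModule S M}
    (hw : w ∘ₗ LocalizedModule.map S u = LinearMap.id) :
    Function.Injective (u.lTensor p.ResidueField) := by
  let κ := p.ResidueField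
  have hu : ∀ x : S, IsUnit (algebraMap R (Module.End R (κ ⊗[R] M)) x) := by
    intro x
    have hx : algebraMap R κ x ≠ 0 := by
      rw [ne_eq, Ideal.algebraMap_residueField_eq_zero]
      exact hS x.2
    refine (Module.End.isUnit_iff _).mpr ?_
    have : ⇑(algebraMap R (Module.End R (κ ⊗[R] M)) x) = fun z => algebraMap R κ x • z := by
      funext z
      simp [Module.algebraMap_end_apply, algebraMap_smul]
    rw [this]
    exact (Units.mk0 _ hx).isUnit.smul_bijective
  let j : LocalizedModule S M →ₗ[R] κ ⊗[R] M :=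
    LocalizedModule.lift S ((TensorProduct.mk R κ M) 1) hu
  let L : κ ⊗[R] LocalizedModule S M →ₗ[R] κ ⊗[R] M :=
    (TensorProduct.lift ((LinearMap.lsmul κ (κ ⊗[R] M)).restrictScalars₁₂ R R)) ∘ₗ j.lTensor κ
  have hL : ∀ z, L ((LocalizedModule.mkLinearMap S M).lTensor κ z) = z := by
    intro z
    induction z with
    | zero => simp
    | add a b ha hb => simp only [map_add, ha, hb]
    | tmul c x =>
      simp [L, j, LocalizedModule.lift_mk, TensorProduct.smul_tmul']
  intro a b hab
  rw [← hL a, ← hL b]
  have hmk : LocalizedModule.mkLinearMap S M = w ∘ₗ LocalizedModule.mkLinearMap S N ∘ₗ u := by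
    ext x
    conv_lhs => rw [← LinearMap.id_apply (R := R) (LocalizedModule.mkLinearMap S M x), ← hw]
    simp [LocalizedModule.map_mk]
  simp only [hmk, LinearMap.lTensor_comp, LinearMap.comp_apply]
  show L _ = L _
  rw [hab]

/-- Fibrewise injectivity at all maximal ideals gives a global left inverse. -/
theorem exists_leftInverse_of_forall_maximal [Module.Finite R M] [Module.Projective R N] (u : M →ₗ[R] N)
    (h : ∀ (m : Ideal R) [m.IsMaximal], Function.Injective (u.lTensor m.ResidueField)) :
    ∃ w : N →ₗ[R] M, w ∘ₗ u = LinearMap.id := by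
  let I : Ideal R :=
    { carrier := {f | ∃ w : N →ₗ[R] M, w ∘ₗ u = f • LinearMap.id}
      add_mem' := by
        rintro a b ⟨w, hw⟩ ⟨w', hw'⟩
        exact ⟨w + w', by rw [LinearMap.add_comp, hw, hw', add_smul]⟩
      zero_mem' := ⟨0, by simp⟩
      smul_mem' := by
        rintro c a ⟨w, hw⟩
        exact ⟨c • w, by rw [LinearMap.smul_comp, hw, smul_smul, smul_eq_mul]⟩ }
  have hI : I = ⊤ := by
    by_contra hne
    obtain ⟨m, hm, hle⟩ := Ideal.exists_le_maximal I hne
    obtain ⟨f, hf, w, hw⟩ := exists_comp_eq_smul_id u m (h m)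
    exact hf (hle ⟨w, hw⟩)
  obtain ⟨w, hw⟩ : (1 : R) ∈ I := hI ▸ trivial
  exact ⟨w, by simpa using hw⟩

end Groth.Agent.EGA41Lib
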