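import Mathlib.RingTheory.Regular.RegularSequence

/-!
Weakly regular sequences: extensions of modules, and powers of the members.
-/

set_option autoImplicit false

universe u

open RingTheory.Sequence Pointwise Function

namespace Groth.Agent.EGA41Lib

variable {R : Type u} [CommRing R]

theorem isWeaklyRegular_of_exact : ∀ (rs : List R) {A B C : Type u} [AddCommGroup A] [Module R A]
    [AddCommGroup B] [Module R B] [AddCommGroup C] [Module R C] {f : A →ₗ[R] B} {g : B →ₗ[R] C},
    Injective f → Exact f g → Surjective g → IsWeaklyRegular A rs → IsWeaklyRegular C rs →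
    IsWeaklyRegular B rs
  | [], _, B, _, _, _, _, _, _, _, _, _, _, _, _, _, _ => IsWeaklyRegular.nil R B
  | r :: rs, A, B, C, _, _, _, _, _, _, f, g, hf, hfg, hg, hA, hC => by
    rw [isWeaklyRegular_cons_iff] at hA hC ⊢
    have hB : IsSMulRegular B r := by
      refine isSMulRegular_iff_right_eq_zero_of_smul.mpr fun b hb => ?_
      have hgb : g b = 0 := hC.1.right_eq_zero_of_smul (by rw [← map_smul, hb, map_zero])
      obtain ⟨a, rfl⟩ := (hfg b).mp hgb
      rw [← map_smul, ← map_zero f] at hb
      rw [hA.1.right_eq_zero_of_smul (hf hb), map_zero]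
    refine ⟨hB, isWeaklyRegular_of_exact rs (f := QuotSMulTop.map r f) (g := QuotSMulTop.map r g) ?_
      (QuotSMulTop.map_exact r hfg hg) (QuotSMulTop.map_surjective r hg) hA.2 hC.2⟩
    rw [injective_iff_map_eq_zero]
    intro z hz
    obtain ⟨a, rfl⟩ := Submodule.Quotient.mk_surjective _ z
    have hz' : f a ∈ r • (⊤ : Submodule R B) := (Submodule.Quotient.mk_eq_zero _).mp hz
    obtain ⟨b, -, hb⟩ := (Submodule.mem_smul_pointwise_iff_exists _ _ _).mp hz'
    have hgb : g b = 0 := hC.1.right_eq_zero_of_smul (by rw [← map_smul, hb, hfg.apply_apply_eq_zero])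
    obtain ⟨a', rfl⟩ := (hfg b).mp hgb
    rw [Submodule.Quotient.mk_eq_zero, ← hf ((map_smul f r a').trans hb)]
    exact Submodule.smul_mem_pointwise_smul a' r ⊤ trivial

/-- Raising the first member to a power. -/
theorem isWeaklyRegular_quot_pow {M : Type u} [AddCommGroup M] [Module R M] {r : R} (hr : IsSMulRegular M r)
    {rs : List R} (h : IsWeaklyRegular (QuotSMulTop r M) rs) (v : ℕ) (hv : 1 ≤ v) :
    IsWeaklyRegular (QuotSMulTop (r ^ v) M) rs := by
  induction v, hv using Nat.le_induction with
  | base => rwa [pow_one]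
  | succ v hv ih =>
    let f : QuotSMulTop (r ^ v) M →ₗ[R] QuotSMulTop (r ^ (v + 1)) M :=
      Submodule.mapQ _ _ (LinearMap.lsmul R M r) (by
        intro x hx
        obtain ⟨y, -, rfl⟩ := hx
        show r • ((DistribSMul.toLinearMap R M (r ^ v)) y) ∈ r ^ (v + 1) • (⊤ : Submodule R M)
        rw [DistribSMul.toLinearMap_apply, ← mul_smul, ← pow_succ']
        exact Submodule.smul_mem_pointwise_smul y _ ⊤ trivial)
    let g : QuotSMulTop (r ^ (v + 1)) M →ₗ[R] QuotSMulTop r M :=
      Submodule.factor (by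
        intro x hx
        obtain ⟨y, -, rfl⟩ := hx
        rw [DistribSMul.toLinearMap_apply, pow_succ', mul_smul]
        exact Submodule.smul_mem_pointwise_smul _ r ⊤ trivial)
    refine isWeaklyRegular_of_exact rs (f := f) (g := g) ?_ ?_ (Submodule.factor_surjective _) ih h
    · rw [injective_iff_map_eq_zero]
      intro z hz
      obtain ⟨a, rfl⟩ := Submodule.Quotient.mk_surjective _ z
      obtain ⟨y, -, hy⟩ := (Submodule.mem_smul_pointwise_iff_exists _ _ _).mp
        ((Submodule.Quotient.mk_eq_zero _).mp hz)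
      rw [pow_succ', mul_smul] at hy
      rw [Submodule.Quotient.mk_eq_zero, ← hr hy]
      exact Submodule.smul_mem_pointwise_smul y _ ⊤ trivial
    · intro z
      obtain ⟨a, rfl⟩ := Submodule.Quotient.mk_surjective _ z
      constructor
      · intro hz
        obtain ⟨y, -, hy⟩ := (Submodule.mem_smul_pointwise_iff_exists _ _ _).mp
          ((Submodule.Quotient.mk_eq_zero (r • ⊤ : Submodule R M)).mp hz)
        exact ⟨Submodule.Quotient.mk y, by show Submodule.Quotient.mk (r • y) = _; rw [hy]; rfl⟩
      · rintro ⟨w, hw⟩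
        obtain ⟨y, rfl⟩ := Submodule.Quotient.mk_surjective _ w
        rw [← hw]
        exact (Submodule.Quotient.mk_eq_zero (r • ⊤ : Submodule R M)).mpr
          (Submodule.smul_mem_pointwise_smul y r ⊤ trivial)

theorem isWeaklyRegular_pow : ∀ (n : ℕ) {M : Type u} [AddCommGroup M] [Module R M] (f : Fin n → R)
    (v : Fin n → ℕ), (∀ i, 1 ≤ v i) → IsWeaklyRegular M (List.ofFn f) →
    IsWeaklyRegular M (List.ofFn fun i => f i ^ v i)
  | 0, M, _, _, _, _, _, _ => by simp
  | n + 1, M, _, _, f, v, hv, hf => by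
    rw [List.ofFn_succ, isWeaklyRegular_cons_iff] at hf ⊢
    refine ⟨hf.1.pow _, ?_⟩
    exact isWeaklyRegular_pow n (fun i => f i.succ) (fun i => v i.succ) (fun i => hv _)
      (isWeaklyRegular_quot_pow hf.1 hf.2 _ (hv 0))

end Groth.Agent.EGA41Lib
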