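import Groth.Prelude.Def_Exal
import Mathlib.RingTheory.Kaehler.Basic
import Mathlib.RingTheory.AdicCompletion.Basic

/-!
Uniqueness of lifts and differentials modulo an ideal.
-/

set_option autoImplicit false
set_option linter.style.haveILetI false

universe u

namespace Groth.Agent.EGA41Lib.Unram

variable {A B : Type u} [CommRing A] [CommRing B] [Algebra A B] (𝔟 : Ideal B)

theorem pow_smul_top {M : Type u} [AddCommGroup M] [Module B M] (h : 𝔟 • (⊤ : Submodule B M) = ⊤) (t : ℕ) :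
    𝔟 ^ t • (⊤ : Submodule B M) = ⊤ := by
  induction t with
  | zero => rw [pow_zero, one_smul]
  | succ t ih => rw [pow_succ', ← smul_eq_mul, Submodule.smul_assoc, ih, h]

/-- If the differentials are divisible by `𝔟`, lifts killing a power of `𝔟` are unique. -/
theorem eq_of_smul_top (h : 𝔟 • (⊤ : Submodule B Ω[B⁄A]) = ⊤) {E : Type u} [CommRing E] [Algebra A E]
    (J : Ideal E) (hJ : IsNilpotent J) (v₁ v₂ : B →ₐ[A] E) (h₁ : ∃ m : ℕ, ∀ x ∈ 𝔟 ^ m, v₁ x = 0)
    (heq : ∀ b : B, Ideal.Quotient.mk J (v₁ b) = Ideal.Quotient.mk J (v₂ b)) : v₁ = v₂ := by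
  obtain ⟨n, hn⟩ := hJ
  obtain ⟨t, ht⟩ := h₁
  have key : ∀ i : ℕ, ∀ b, v₂ b - v₁ b ∈ J ^ i := by
    intro i
    induction i with
    | zero => intro b; simp
    | succ i ih =>
      rcases Nat.eq_zero_or_pos i with rfl | hi
      · intro b
        rw [zero_add, pow_one]
        exact Ideal.Quotient.eq.mp (heq b).symm
      let K := J ^ (i + 1)
      let f : B →ₐ[A] E ⧸ K := (Ideal.Quotient.mkₐ A K).comp v₁
      letI : Module B (E ⧸ K) := Module.compHom (E ⧸ K) f.toRingHom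
      haveI : IsScalarTower A B (E ⧸ K) := IsScalarTower.of_algebraMap_smul fun a z => by
        show f (algebraMap A B a) * z = a • z
        rw [f.commutes, ← Algebra.smul_def]
      let D : Derivation A B (E ⧸ K) := Derivation.mk'
        { toFun := fun b => Ideal.Quotient.mk K (v₂ b - v₁ b)
          map_add' := fun x y => by
            rw [map_add, map_add, add_sub_add_comm, map_add]
          map_smul' := fun a x => by
            rw [RingHom.id_apply, map_smul, map_smul, ← smul_sub]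
            exact map_smul (Ideal.Quotient.mkₐ A K) a (v₂ x - v₁ x) }
        fun x y => by
          show Ideal.Quotient.mk K (v₂ (x * y) - v₁ (x * y)) =
            Ideal.Quotient.mk K (v₁ x) * Ideal.Quotient.mk K (v₂ y - v₁ y) +
              Ideal.Quotient.mk K (v₁ y) * Ideal.Quotient.mk K (v₂ x - v₁ x)
          rw [← map_mul, ← map_mul, ← map_add, Ideal.Quotient.eq, map_mul, map_mul,
            show v₂ x * v₂ y - v₁ x * v₁ y - (v₁ x * (v₂ y - v₁ y) + v₁ y * (v₂ x - v₁ x)) =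
              (v₂ x - v₁ x) * (v₂ y - v₁ y) by ring]
          have := Ideal.mul_mem_mul (ih x) (ih y)
          rw [← pow_add] at this
          exact Ideal.pow_le_pow_right (by omega) this
      have hzero : D.liftKaehlerDifferential = 0 := by
        refine LinearMap.ext fun w => ?_
        have hw : w ∈ 𝔟 ^ t • (⊤ : Submodule B Ω[B⁄A]) := by rw [pow_smul_top 𝔟 h t]; trivial
        refine Submodule.smul_induction_on hw (fun r hr z _ => ?_) fun x y hx hy => ?_
        · rw [map_smul]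
          show Ideal.Quotient.mk K (v₁ r) * _ = 0
          rw [ht r hr, map_zero, zero_mul]
        · rw [map_add, hx, hy]; simp
      intro b
      have := LinearMap.congr_fun hzero (KaehlerDifferential.D A B b)
      rw [Derivation.liftKaehlerDifferential_comp_D] at this
      exact Ideal.Quotient.eq_zero_iff_mem.mp this
  refine AlgHom.ext fun b => (sub_eq_zero.mp ?_).symm
  have := key n b
  rwa [hn] at this

attribute [local instance] Exal.opModule Exal.isCentralScalar_opModule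

/-- The converse, by a square-zero extension of `B ⧸ 𝔟`. -/
theorem smul_top_of_unique (k : ℕ) (𝔞 : Ideal A) (hab : (𝔞 ^ k).map (algebraMap A B) ≤ 𝔟)
    (h : ∀ (E : Type u) [CommRing E] [Algebra A E], (∃ k : ℕ, (𝔞 ^ k).map (algebraMap A E) = ⊥) →
      ∀ J : Ideal E, IsNilpotent J → ∀ v₁ v₂ : B →ₐ[A] E,
        (∃ m : ℕ, ∀ x ∈ 𝔟 ^ m, v₁ x = 0) → (∃ m : ℕ, ∀ x ∈ 𝔟 ^ m, v₂ x = 0) →
        (∀ b : B, Ideal.Quotient.mk J (v₁ b) = Ideal.Quotient.mk J (v₂ b)) → v₁ = v₂) :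
    𝔟 • (⊤ : Submodule B Ω[B⁄A]) = ⊤ := by
  haveI : IsScalarTower A (B ⧸ 𝔟) (Ω[B⁄A] ⧸ (𝔟 • ⊤ : Submodule B Ω[B⁄A])) := IsScalarTower.of_algebraMap_smul fun a z => by
    show Ideal.Quotient.mk 𝔟 (algebraMap A B a) • z = a • z
    rw [← Ideal.Quotient.algebraMap_eq, algebraMap_smul, algebraMap_smul]
  let v₁ : B →ₐ[A] TrivSqZeroExt (B ⧸ 𝔟) (Ω[B⁄A] ⧸ (𝔟 • ⊤ : Submodule B Ω[B⁄A])) :=
    { toRingHom := (TrivSqZeroExt.inlHom (B ⧸ 𝔟) (Ω[B⁄A] ⧸ (𝔟 • ⊤ : Submodule B Ω[B⁄A]))).comp (Ideal.Quotient.mk 𝔟)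
      commutes' := fun a => rfl }
  let g : B → TrivSqZeroExt (B ⧸ 𝔟) (Ω[B⁄A] ⧸ (𝔟 • ⊤ : Submodule B Ω[B⁄A])) := fun b => TrivSqZeroExt.inl (Ideal.Quotient.mk 𝔟 b) +
    TrivSqZeroExt.inr (Submodule.Quotient.mk (KaehlerDifferential.D A B b))
  let v₂ : B →ₐ[A] TrivSqZeroExt (B ⧸ 𝔟) (Ω[B⁄A] ⧸ (𝔟 • ⊤ : Submodule B Ω[B⁄A])) :=
    { toFun := g
      map_one' := by simp [g]
      map_mul' := fun x y => by
        refine TrivSqZeroExt.ext ?_ ?_
        · simp [g]
        · simp only [g, TrivSqZeroExt.snd_add, TrivSqZeroExt.snd_inl, TrivSqZeroExt.snd_inr, zero_add,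
            TrivSqZeroExt.snd_mul, TrivSqZeroExt.fst_add, TrivSqZeroExt.fst_inl, TrivSqZeroExt.fst_inr, add_zero,
            Derivation.leibniz, op_smul_eq_smul, Submodule.Quotient.mk_add, Submodule.Quotient.mk_smul]
          rw [← Ideal.Quotient.algebraMap_eq, algebraMap_smul, algebraMap_smul]
      map_zero' := by simp [g]
      map_add' := fun x y => by
        simp only [g, map_add, Submodule.Quotient.mk_add, TrivSqZeroExt.inl_add, TrivSqZeroExt.inr_add]
        abel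
      commutes' := fun a => by
        show g (algebraMap A B a) = _
        simp only [g, Derivation.map_algebraMap, Submodule.Quotient.mk_zero, TrivSqZeroExt.inr_zero, add_zero]
        rfl }
  have hJ : (RingHom.ker (TrivSqZeroExt.fstHom (B ⧸ 𝔟) (B ⧸ 𝔟) (Ω[B⁄A] ⧸ (𝔟 • ⊤ : Submodule B Ω[B⁄A]))).toRingHom) ^ 2 = ⊥ := by
    rw [← le_bot_iff, pow_two, Ideal.mul_le]
    intro x hx y hy
    have hx' : x.fst = 0 := hx
    have hy' : y.fst = 0 := hy
    refine Ideal.mem_bot.mpr (TrivSqZeroExt.ext (by simp [hx']) (by simp [hx', hy', op_smul_eq_smul]))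
  have hE : ∃ k : ℕ, (𝔞 ^ k).map (algebraMap A (TrivSqZeroExt (B ⧸ 𝔟) (Ω[B⁄A] ⧸ (𝔟 • ⊤ : Submodule B Ω[B⁄A])))) = ⊥ := by
    refine ⟨k, le_bot_iff.mp (Ideal.map_le_iff_le_comap.mpr fun a ha => ?_)⟩
    show (TrivSqZeroExt.inl (Ideal.Quotient.mk 𝔟 (algebraMap A B a)) : TrivSqZeroExt (B ⧸ 𝔟) (Ω[B⁄A] ⧸ (𝔟 • ⊤ : Submodule B Ω[B⁄A]))) = 0
    rw [Ideal.Quotient.eq_zero_iff_mem.mpr (hab (Ideal.mem_map_of_mem _ ha)), TrivSqZeroExt.inl_zero]
  have h₁ : ∀ x ∈ 𝔟, v₁ x = 0 := fun x hx => by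
    show (TrivSqZeroExt.inl (Ideal.Quotient.mk 𝔟 x) : TrivSqZeroExt (B ⧸ 𝔟) (Ω[B⁄A] ⧸ (𝔟 • ⊤ : Submodule B Ω[B⁄A]))) = 0
    rw [Ideal.Quotient.eq_zero_iff_mem.mpr hx, TrivSqZeroExt.inl_zero]
  have h₂ : ∀ x ∈ 𝔟 ^ 2, v₂ x = 0 := by
    intro x hx
    rw [pow_two] at hx
    refine Submodule.mul_induction_on hx (fun a ha b hb => ?_) fun a b ha hb => by rw [map_add, ha, hb, add_zero]
    rw [map_mul]
    refine TrivSqZeroExt.ext ?_ ?_ <;>
      simp [v₂, g, Ideal.Quotient.eq_zero_iff_mem.mpr ha, Ideal.Quotient.eq_zero_iff_mem.mpr hb]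
  have hv := h _ hE _ ⟨2, hJ⟩ v₁ v₂ ⟨1, fun x hx => h₁ x (pow_one 𝔟 ▸ hx)⟩ ⟨2, h₂⟩ fun b => by
    rw [Ideal.Quotient.eq, RingHom.mem_ker]
    simp [v₁, v₂, g]
  have hD : ∀ b, KaehlerDifferential.D A B b ∈ (𝔟 • ⊤ : Submodule B Ω[B⁄A]) := fun b => by
    have := congrArg TrivSqZeroExt.snd (AlgHom.congr_fun hv b)
    rw [← Submodule.Quotient.mk_eq_zero]
    simpa [v₁, v₂, g] using this.symm
  rw [eq_top_iff]
  conv_lhs => rw [← KaehlerDifferential.span_range_derivation A B]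
  rw [Submodule.span_le]
  rintro _ ⟨b, rfl⟩
  exact hD b

theorem subsingleton_adicCompletion_iff {M : Type u} [AddCommGroup M] [Module B M] :
    Subsingleton (AdicCompletion 𝔟 M) ↔ 𝔟 • (⊤ : Submodule B M) = ⊤ := by
  constructor
  · intro h
    refine eq_top_iff.mpr fun x _ => ?_
    have h1 := congrArg (fun z : AdicCompletion 𝔟 M => z.val 1) (Subsingleton.elim (AdicCompletion.of 𝔟 M x) 0)
    have h2 : (Submodule.Quotient.mk x : M ⧸ (𝔟 ^ 1 • ⊤ : Submodule B M)) = 0 := h1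
    rw [Submodule.Quotient.mk_eq_zero, pow_one] at h2
    exact h2
  · intro h
    refine ⟨fun x y => AdicCompletion.ext fun n => ?_⟩
    haveI : Subsingleton (M ⧸ (𝔟 ^ n • ⊤ : Submodule B M)) :=
      Submodule.Quotient.subsingleton_iff.mpr (pow_smul_top 𝔟 h n)
    exact Subsingleton.elim _ _

theorem subsingleton_kaehler_quotient_iff (𝔪 : Ideal A) :
    Subsingleton (Ω[B ⧸ 𝔪.map (algebraMap A B)⁄A ⧸ 𝔪]) ↔
      𝔪.map (algebraMap A B) • (⊤ : Submodule B Ω[B⁄A]) = ⊤ := by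
  let I := 𝔪.map (algebraMap A B)
  constructor
  · intro h
    let Q := Ω[B⁄A] ⧸ (I • ⊤ : Submodule B Ω[B⁄A])
    letI : Module (A ⧸ 𝔪) Q := Module.compHom Q (algebraMap (A ⧸ 𝔪) (B ⧸ I))
    haveI : IsScalarTower (A ⧸ 𝔪) (B ⧸ I) Q := IsScalarTower.of_algebraMap_smul fun _ _ => rfl
    have hker : ∀ x ∈ I, (Submodule.Quotient.mk (KaehlerDifferential.D A B x) : Q) = 0 := by
      intro x hx
      rw [Submodule.Quotient.mk_eq_zero]
      refine Submodule.span_induction ?_ ?_ ?_ ?_ hx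
      · rintro _ ⟨a, -, rfl⟩; simp
      · simp
      · intro a b _ _ ha hb; rw [map_add]; exact add_mem ha hb
      · intro c b hb hb'
        rw [smul_eq_mul, Derivation.leibniz]
        exact add_mem (Submodule.smul_mem _ _ hb') (Submodule.smul_mem_smul hb trivial)
    let D₀ : B ⧸ I → Q := Quotient.lift (fun b => (Submodule.Quotient.mk (KaehlerDifferential.D A B b) : Q))
      (fun a b hab => sub_eq_zero.mp (by
        rw [← Submodule.Quotient.mk_sub, ← map_sub]
        exact hker _ ((Submodule.quotientRel_def _).mp hab)))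
    have hD₀ : ∀ b, D₀ (Ideal.Quotient.mk I b) = Submodule.Quotient.mk (KaehlerDifferential.D A B b) := fun _ => rfl
    let D : Derivation (A ⧸ 𝔪) (B ⧸ I) Q := Derivation.mk'
      { toFun := D₀
        map_add' := fun x y => by
          obtain ⟨x, rfl⟩ := Ideal.Quotient.mk_surjective x
          obtain ⟨y, rfl⟩ := Ideal.Quotient.mk_surjective y
          rw [← map_add, hD₀, hD₀, hD₀, map_add, Submodule.Quotient.mk_add]
        map_smul' := fun a x => by
          obtain ⟨x, rfl⟩ := Ideal.Quotient.mk_surjective x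
          obtain ⟨a, rfl⟩ := Ideal.Quotient.mk_surjective a
          have e1 : algebraMap (A ⧸ 𝔪) (B ⧸ I) (Ideal.Quotient.mk 𝔪 a) = Ideal.Quotient.mk I (algebraMap A B a) := rfl
          rw [RingHom.id_apply, ← algebraMap_smul (B ⧸ I) (Ideal.Quotient.mk 𝔪 a) (D₀ _), Algebra.smul_def
            (Ideal.Quotient.mk 𝔪 a) (Ideal.Quotient.mk I x), e1, ← map_mul, hD₀, hD₀, ← Algebra.smul_def, Derivation.map_smul, ← Ideal.Quotient.algebraMap_eq,
            algebraMap_smul, algebraMap_smul, Submodule.Quotient.mk_smul] }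
      fun x y => by
        obtain ⟨x, rfl⟩ := Ideal.Quotient.mk_surjective x
        obtain ⟨y, rfl⟩ := Ideal.Quotient.mk_surjective y
        show D₀ (Ideal.Quotient.mk I x * Ideal.Quotient.mk I y) =
          Ideal.Quotient.mk I x • D₀ (Ideal.Quotient.mk I y) + Ideal.Quotient.mk I y • D₀ (Ideal.Quotient.mk I x)
        rw [← map_mul, hD₀, hD₀, hD₀, Derivation.leibniz, Submodule.Quotient.mk_add, Submodule.Quotient.mk_smul,
          Submodule.Quotient.mk_smul, ← Ideal.Quotient.algebraMap_eq, algebraMap_smul, algebraMap_smul]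
    have key : ∀ z, D z = 0 := fun z => by
      rw [← D.liftKaehlerDifferential_comp_D, Subsingleton.elim (KaehlerDifferential.D (A ⧸ 𝔪) (B ⧸ I) z) 0, map_zero]
    have hD' : ∀ b, KaehlerDifferential.D A B b ∈ (I • ⊤ : Submodule B Ω[B⁄A]) := fun b =>
      (Submodule.Quotient.mk_eq_zero _).mp (key (Ideal.Quotient.mk I b))
    rw [eq_top_iff]
    conv_lhs => rw [← KaehlerDifferential.span_range_derivation A B]
    rw [Submodule.span_le]
    rintro _ ⟨b, rfl⟩
    exact hD' b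
  · intro h
    haveI : IsScalarTower A (A ⧸ 𝔪) (B ⧸ I) := IsScalarTower.of_algebraMap_eq fun _ => rfl
    let ν := KaehlerDifferential.map A (A ⧸ 𝔪) B (B ⧸ I)
    have hν : ∀ w : Ω[B⁄A], ν w = 0 := by
      intro w
      have hw : w ∈ I • (⊤ : Submodule B Ω[B⁄A]) := by rw [h]; trivial
      refine Submodule.smul_induction_on hw (fun r hr z _ => ?_) fun x y hx hy => by rw [map_add, hx, hy, add_zero]
      rw [map_smul, ← algebraMap_smul (B ⧸ I), Ideal.Quotient.algebraMap_eq, Ideal.Quotient.eq_zero_iff_mem.mpr hr,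
        zero_smul]
    refine subsingleton_of_forall_eq 0 fun z => ?_
    have hz : z ∈ Submodule.span (B ⧸ I) (Set.range (KaehlerDifferential.D (A ⧸ 𝔪) (B ⧸ I))) :=
      KaehlerDifferential.span_range_derivation (A ⧸ 𝔪) (B ⧸ I) ▸ trivial
    refine (Submodule.span_le.mpr ?_ : _ ≤ (⊥ : Submodule (B ⧸ I) _)) hz
    rintro _ ⟨b, rfl⟩
    obtain ⟨b, rfl⟩ := Ideal.Quotient.mk_surjective b
    have := hν (KaehlerDifferential.D A B b)
    rw [KaehlerDifferential.map_D] at this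
    exact this

end Groth.Agent.EGA41Lib.Unram
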